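import Groth.Agent.CohAffLib.Desc

/-!
# Sections of direct images through a chart of the fibre
-/

set_option autoImplicit false
set_option linter.style.haveILetI false
set_option backward.isDefEq.respectTransparency false
set_option backward.isDefEq.respectTransparency.types false
set_option maxHeartbeats 800000

universe u

open CategoryTheory CategoryTheory.Limits AlgebraicGeometry FibCat StMod GenDescLib

noncomputable section

namespace TameStLib

variable {S : Scheme.{u}} {𝒳 𝒴 : AlgSt.Cat S} [IsFibGrpd 𝒳.p] [IsFibGrpd 𝒴.p] {π : 𝒳 ⥤ᵇ 𝒴} {η : 𝒴.obj}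
  {w0 r : (fibCat π η).obj} {p q : r ⟶ w0}

theorem relSect_invariant {F : Mod 𝒳} (s : Mod.RelSect π F η) :
    F.mapTop p.left (s.1 w0.left w0.hom) = F.mapTop q.left (s.1 w0.left w0.hom) := by
  rw [← CohAffLib.mapTop_comapFst η F p, ← CohAffLib.mapTop_comapFst η F q]
  exact (CohAffLib.relSect_compat s p).trans (CohAffLib.relSect_compat s q).symm

/-- Sections with the same value on the chart are equal. -/
theorem relSect_ext_chart (hW : Chart (fibCat π η) w0 r p q) (F : QCoh 𝒳) (s t : Mod.RelSect π F.obj η)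
    (e : s.1 w0.left w0.hom = t.1 w0.left w0.hom) : s = t := by
  let F0 := (comapQ (fibFst π η)).obj F
  let sv : Γ(F0.obj.obj w0, ⊤) := s.1 w0.left w0.hom
  let tv : Γ(F0.obj.obj w0, ⊤) := t.1 w0.left w0.hom
  have key := CohAffLib.family_ext (M := F0.obj) F0.property.1 hW (fun x => s.1 x.left x.hom)
    (fun x => t.1 x.left x.hom) (fun φ => CohAffLib.relSect_compat _ φ) (fun φ => CohAffLib.relSect_compat _ φ)
    (show sv = tv from e)
  exact Mod.RelSect.ext _ _ _ fun ξ a => congrFun key (CostructuredArrow.mk (S := π.toFunctor) (Y := ξ) a)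

/-- Invariant lifts on the chart give surjectivity on sections. -/
theorem surjective_of_chart (hW : Chart (fibCat π η) w0 r p q) {F G : QCoh 𝒳} (u : F ⟶ G)
    (h : ∀ v : Γ(G.obj.obj w0.left, ⊤), G.obj.mapTop p.left v = G.obj.mapTop q.left v →
      ∃ m : Γ(F.obj.obj w0.left, ⊤), F.obj.mapTop p.left m = F.obj.mapTop q.left m ∧
        (u.hom.app w0.left).app ⊤ m = v) :
    Function.Surjective (Mod.relSectMap π u.hom η) := by
  intro s
  obtain ⟨m, hm, hm'⟩ := h _ (relSect_invariant (p := p) (q := q) s)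
  let F0 := (comapQ (fibFst π η)).obj F
  let mv : Γ(F0.obj.obj w0, ⊤) := m
  let uv : Γ(F0.obj.obj w0, ⊤) → Γ(G.obj.obj w0.left, ⊤) := fun z => (u.hom.app w0.left).app ⊤ z
  have hm0 : F0.obj.mapTop p mv = F0.obj.mapTop q mv :=
    (CohAffLib.mapTop_comapFst η F.obj p m).trans (hm.trans (CohAffLib.mapTop_comapFst η F.obj q m).symm)
  obtain ⟨t, ht, htv⟩ := CohAffLib.exists_family F0.property.1 F0.property.2 hW mv hm0
  refine ⟨CohAffLib.ofFamily t ht, relSect_ext_chart hW G _ _ ?_⟩
  show uv (t w0) = _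
  exact (congrArg uv htv).trans hm'

end TameStLib
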