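import Groth.Prelude.Def_StMod2
import Groth.Agent.StPushLib.OverSp
import Groth.Agent.GenDescLib.Main
import Mathlib.Topology.Sheaves.SheafCondition.UniqueGluing

/-!
# The unit is an isomorphism when it is one on affine objects
-/

set_option autoImplicit false
set_option linter.style.haveILetI false
set_option backward.isDefEq.respectTransparency false
set_option backward.isDefEq.respectTransparency.types false
set_option maxHeartbeats 800000

universe u

open CategoryTheory CategoryTheory.Limits AlgebraicGeometry AlgSp FibCat StMod Opposite TopologicalSpace GenDescLib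

noncomputable section

namespace TameStLib

variable {S : Scheme.{u}} {M : AlgSp.Sp S} {𝒳 : AlgSt.Cat S} (π : 𝒳 ⥤ᵇ AlgSt.ofSp M)

theorem unitSect_res {η' η : (AlgSt.ofSp M).obj} (l : η' ⟶ η) (r : Γ(η.base.left, ⊤)) (ξ : 𝒳.obj)
    (α : π.obj ξ ⟶ η') : (unitSect π η r).1 ξ (α ≫ l) = (unitSect π η' (l.hom.left.appTop r)).1 ξ α := by
  show (baseOver π ξ (α ≫ l)).left.appTop r = (baseOver π ξ α).left.appTop (l.hom.left.appTop r)
  have e : (baseOver π ξ (α ≫ l)).left = (baseOver π ξ α).left ≫ l.hom.left := by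
    show ((eqToHom _ ≫ (α ≫ l).hom) : _ ⟶ _).left = (eqToHom _ ≫ α.hom).left ≫ _
    rw [← Over.comp_left, Category.assoc]
    rfl
  rw [e, Scheme.Hom.comp_appTop]
  rfl

theorem res_ext {X : Scheme.{u}} {ι : Type u} (U : ι → X.Opens) (V : X.Opens) (hU : ∀ x ∈ V, ∃ i, x ∈ U i)
    (hUV : ∀ i, U i ≤ V) (a b : Γ(X, V))
    (h : ∀ i, X.presheaf.map (homOfLE (hUV i)).op a = X.presheaf.map (homOfLE (hUV i)).op b) : a = b :=
  TopCat.Sheaf.eq_of_locally_eq' ((Scheme.sheaf X)) U V (fun i => homOfLE (hUV i))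
    (fun x hx => Opens.mem_iSup.2 (hU x hx)) a b h

theorem ext_cover {X : Scheme.{u}} {ι : Type u} (U : ι → X.Opens) (hU : ∀ x : X, ∃ i, x ∈ U i) (a b : Γ(X, ⊤))
    (h : ∀ i, (U i).ι.appTop a = (U i).ι.appTop b) : a = b := by
  refine res_ext (fun i => (U i).ι ''ᵁ ⊤) ⊤ (fun x _ => ?_) (fun i => le_top) a b fun i => ?_
  · obtain ⟨i, hi⟩ := hU x
    exact ⟨i, by rw [Scheme.Opens.ι_image_top]; exact hi⟩
  · exact h i

variable [IsFibGrpd 𝒳.p]

/-- The unit is bijective on an object when it is so on its affine opens. -/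
theorem bijective_unitSect_of_opens (η : (AlgSt.ofSp M).obj)
    (h : ∀ U : η.base.left.affineOpens, Function.Bijective (unitSect π (StPushLib.objLeft η U.1.ι))) :
    Function.Bijective (unitSect π η) := by
  let E := η.base.left
  let o : ∀ U : E.affineOpens, (AlgSt.ofSp M).obj := fun U => StPushLib.objLeft η U.1.ι
  let l : ∀ U : E.affineOpens, o U ⟶ η := fun U => StPushLib.objLeftHom η U.1.ι
  have haff : ∀ U : E.affineOpens, IsAffine (o U).base.left := fun U => U.2
  have hcov : ∀ x : E, ∃ U : E.affineOpens, x ∈ U.1 := fun x => by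
    obtain ⟨_, ⟨U, hU, rfl⟩, hx, -⟩ :=
      E.isBasis_affineOpens.exists_subset_of_mem_open (Set.mem_univ x) isOpen_univ
    exact ⟨⟨U, hU⟩, hx⟩
  refine ⟨fun r r' e => ext_cover (fun U : E.affineOpens => U.1) hcov r r' fun U => (h U).1 ?_,
    fun s => ?_⟩
  · refine Mod.RelSect.ext _ _ _ fun ξ α => ?_
    exact (unitSect_res π (l U) r ξ α).symm.trans
      ((congrArg (fun t : (O 𝒳).RelSect π η => t.1 ξ (α ≫ l U)) e).trans (unitSect_res π (l U) r' ξ α))
  let res : ∀ U : E.affineOpens, (O 𝒳).RelSect π (o U) := fun U =>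
    ⟨fun ξ α => s.1 ξ (α ≫ l U), fun ξ' ξ φ α => by
      rw [s.2 φ (α ≫ l U)]; exact congrArg (s.1 ξ') (Category.assoc _ _ _).symm⟩
  choose r hr using fun U => (h U).2 (res U)
  have hle : ∀ {W U : E.affineOpens} (hWU : W.1 ≤ U.1), (E.homOfLE hWU).appTop (r U) = r W := fun {W U} hWU => by
    obtain ⟨ρ, hρ, hρ'⟩ := StPushLib.exists_homLeft (l U) (l W) (E.homOfLE hWU) (E.homOfLE_ι hWU)
    refine (h W).1 (Mod.RelSect.ext _ _ _ fun ξ α => ?_)
    rw [hr W]
    show _ = s.1 ξ (α ≫ l W)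
    rw [← hρ, ← Category.assoc]
    show _ = (res U).1 ξ (α ≫ ρ)
    rw [← hr U]
    refine Eq.trans ?_ (unitSect_res π ρ (r U) ξ α).symm
    rw [hρ']
    rfl
  let O' : E.affineOpens → E.Opens := fun U => U.1.ι ''ᵁ ⊤
  have hO' : ∀ U, O' U = U.1 := fun U => Scheme.Opens.ι_image_top _
  have hmap : ∀ {W U : E.affineOpens} (hWU : O' W ≤ O' U),
      E.presheaf.map (homOfLE hWU).op (r U) = r W := fun {W U} hWU => by
    have hWU' : W.1 ≤ U.1 := by rw [← hO' W, ← hO' U]; exact hWU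
    rw [← hle hWU', Scheme.homOfLE_appTop]
    rfl
  have hcompat : TopCat.Presheaf.IsCompatible E.presheaf O' r := fun U V => by
    refine res_ext (ι := {W : E.affineOpens // O' W ≤ O' U ⊓ O' V}) (fun W => O' W.1) _ (fun x hx => ?_)
      (fun W => W.2) _ _ fun W => ?_
    · obtain ⟨_, ⟨W, hW, rfl⟩, hxW, hWle⟩ :=
        E.isBasis_affineOpens.exists_subset_of_mem_open (show x ∈ (O' U ⊓ O' V : E.Opens) from hx) (O' U ⊓ O' V).isOpen
      exact ⟨⟨⟨W, hW⟩, by rw [hO']; exact hWle⟩, by show x ∈ O' ⟨W, hW⟩; rw [hO']; exact hxW⟩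
    · rw [← ConcreteCategory.comp_apply, ← ConcreteCategory.comp_apply, ← Functor.map_comp, ← Functor.map_comp]
      exact (hmap (W.2.trans inf_le_left)).trans (hmap (W.2.trans inf_le_right)).symm
  obtain ⟨g, hg, -⟩ := TopCat.Sheaf.existsUnique_gluing' (Scheme.sheaf E) O' (⊤ : E.Opens)
    (fun U => homOfLE le_top) (fun x _ => by
      obtain ⟨U, hU⟩ := hcov x
      exact Opens.mem_iSup.2 ⟨U, by rw [hO']; exact hU⟩) r hcompat
  have hgU : ∀ U : E.affineOpens, U.1.ι.appTop g = r U := hg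
  refine ⟨g, Mod.RelSect.ext _ _ _ fun ξ α => ?_⟩
  let x : (fibCat π η).obj := CostructuredArrow.mk (S := π.toFunctor) (Y := ξ) α
  let β : sch (fibCat π η) x ⟶ E := fibBase x
  refine ext_cover (fun U : E.affineOpens => β ⁻¹ᵁ U.1) (fun y => hcov (β y)) _ _ fun U => ?_
  let V := β ⁻¹ᵁ U.1
  obtain ⟨z, e, m, hm⟩ := fib_lift (f := π) (η := η) x V.toScheme V.ι
  let f : (π.obj z.left).base.left ⟶ U.1.toScheme :=
    (eqToHom (π.w_obj z.left)).left ≫ eqToHom e ≫ β.resLE U.1 V le_rfl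
  have hf : f ≫ (l U).hom.left = z.hom.hom.left := by
    show ((eqToHom (π.w_obj z.left)).left ≫ eqToHom e ≫ β.resLE U.1 V le_rfl) ≫ U.1.ι = _
    rw [Category.assoc, Category.assoc, Scheme.Hom.resLE_comp_ι]
    show (eqToHom (π.w_obj z.left)).left ≫ eqToHom e ≫ V.ι ≫ β = _
    rw [← Category.assoc (eqToHom e), ← hm, bmap_fibBase]
    show (eqToHom (π.w_obj z.left)).left ≫ (eqToHom (π.w_obj z.left).symm ≫ z.hom.hom).left = _
    rw [← Over.comp_left, eqToHom_trans_assoc, eqToHom_refl, Category.id_comp]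
  obtain ⟨δ, hδ, -⟩ := StPushLib.exists_homLeft (l U) z.hom f hf
  have h1 : (O 𝒳).mapTop m.left ((unitSect π η g).1 ξ α) = (O 𝒳).mapTop m.left (s.1 ξ α) := by
    refine ((unitSect π η g).2 (ξ := ξ) m.left α).trans (Eq.trans ?_ (s.2 (ξ := ξ) m.left α).symm)
    show (unitSect π η g).1 z.left (π.map m.left ≫ x.hom) = s.1 z.left (π.map m.left ≫ x.hom)
    rw [CostructuredArrow.w m, ← hδ]
    refine (unitSect_res π (l U) g z.left δ).trans ?_
    show (unitSect π (o U) (U.1.ι.appTop g)).1 z.left δ = (res U).1 z.left δ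
    rw [hgU, hr]
  rw [O_mapTop, O_mapTop] at h1
  have hbm : bmap 𝒳 m.left = eqToHom e ≫ V.ι := hm
  rw [hbm, Scheme.Hom.comp_appTop] at h1
  exact (ConcreteCategory.bijective_of_isIso (eqToHom e).appTop).1 h1

/-- The unit is bijective on all objects when it is so on objects with affine base. -/
theorem bijective_unitSect_of_affine
    (h : ∀ η : (AlgSt.ofSp M).obj, IsAffine η.base.left → Function.Bijective (unitSect π η))
    (η : (AlgSt.ofSp M).obj) : Function.Bijective (unitSect π η) :=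
  bijective_unitSect_of_opens π η fun U => h _ U.2

end TameStLib
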