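import Groth.Agent.TameStLib.Main
import Groth.Agent.TameStLib.Local
import Groth.Agent.QuotTransLib.FppfDiag
import Groth.Agent.AlgStLib.QcMor
import Groth.Agent.AlgStLib.PointsQc
import Groth.Agent.AlgStLib.PointsTop
import Groth.Agent.AlgStLib.Rows3

/-!
# The map of an affine quotient stack to the invariants
-/

set_option autoImplicit false
set_option linter.style.haveILetI false
set_option backward.isDefEq.respectTransparency false
set_option backward.isDefEq.respectTransparency.types false
set_option maxHeartbeats 800000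

universe u

open CategoryTheory CategoryTheory.Limits MonoidalCategory CartesianMonoidalCategory AlgebraicGeometry FibCat StMod
open AlgSp AlgSpLib AlgStLib FibLib
open scoped MonObj

noncomputable section

namespace TameStLib

open CoactBr (sp pt)

theorem qcqs_diag_toSelf_of_isAffine {S : Scheme.{u}} [IsAffine S] (U : Over S) [IsAffine U.left] :
    AlgSt.IsQuasiSeparatedOver (AlgSt.ofSch U) := by
  haveI := isFibGrpd_of_repByAlgSp (repByAlgSp_selfOver (S := S))
  haveI := FibLib.isFibGrpd_overCat U
  have hX : IsAffineHom (pullback.diagonal U.hom) := by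
    haveI : IsAffineHom U.hom := inferInstance
    infer_instance
  have h1 : AlgSt.RepByAlgSpWith (fun A B b => RepWith @IsAffineHom (pullback.diagonal b))
      (toSelf (overCat U)) := QuotTransLib.repByAlgSpWith_diagWith_toSelf @IsAffineHom hX
  have h2 : AlgSt.RepByAlgSpWith (fun A B b => RepWith @IsAffineHom (pullback.diagonal b))
      (toSelf (AlgSt.ofSch U)) :=
    (repByAlgSpWith_square_iff (f := toSelf (overCat U)) (f' := toSelf (AlgSt.ofSch U))
      (a := AlgSt.toOverCat U) (b := BasedFunctor.id _) (isEquivOver_toOverCat U) (isEquivOver_id _)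
      (compToSelfIso (AlgSt.toOverCat U)).symm _).mp h1
  refine repByAlgSpWith_diag_of_rep (good_qc.inf good_qs).bc h2 fun K T a hK h => ?_
  have hKK := isAlgSpace_pullback hK hK (IsAlgSpace.yon_obj T) a a
  exact ⟨isQuasiCompactMor_of_repWith hK hKK
      (repWith_mono (fun _ _ g (_ : IsAffineHom g) => (inferInstance : QuasiCompact g)) h),
    isQuasiSeparatedMor_of_isSeparatedMor (isSeparatedMor_of_repWith
      (repWith_mono (fun _ _ g (_ : IsAffineHom g) => (inferInstance : IsSeparated g)) h))⟩

variable (R : Type u) [CommRing R] (A : Type u) [CommRing A] [HopfAlgebra R A] [Module.Flat R A]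
  [Algebra.FinitePresentation R A]
variable (B : Type u) [CommRing B] [Algebra R B] [HopfRep.Comod R A B] [GLin.IsCoactAlg R A B]

omit [Algebra.FinitePresentation R A] in
theorem flat_sp : Flat (sp R A).hom := by
  show Flat (Spec.map (CommRingCat.ofHom (algebraMap R A)))
  rw [HasRingHomProperty.Spec_iff (P := @Flat), CommRingCat.hom_ofHom, RingHom.flat_algebraMap_iff]
  infer_instance

omit [Module.Flat R A] in
theorem lfp_sp : LocallyOfFinitePresentation (sp R A).hom := by
  show LocallyOfFinitePresentation (Spec.map (CommRingCat.ofHom (algebraMap R A)))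
  rw [HasRingHomProperty.Spec_iff (P := @LocallyOfFinitePresentation), CommRingCat.hom_ofHom,
    RingHom.finitePresentation_algebraMap]
  infer_instance

variable (h𝒳 : AlgSt.IsAlgStack Scheme.fppfPrecoverage (QS R A B))

include h𝒳 in
theorem qc_qs (ρ : QS R A B ⥤ᵇ AlgSt.ofSch (sp R ↥(GLin.invariants R A B))) :
    AlgSt.IsQuasiCompactMor Scheme.fppfPrecoverage ρ ∧ AlgSt.IsQuasiSeparatedMor ρ := by
  haveI : IsAffine (sp R A).left := inferInstanceAs (IsAffine (Spec _))
  haveI : IsAffine (sp R B).left := inferInstanceAs (IsAffine (Spec _))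
  haveI : IsAffine (sp R ↥(GLin.invariants R A B)).left := inferInstanceAs (IsAffine (Spec _))
  haveI : IsAffineHom (sp R A).hom := inferInstance
  haveI := flat_sp R A
  haveI := lfp_sp R A
  haveI := AlgStLib.isFibGrpd_of_isAlgStack h𝒳
  let qmB := QuotStLib.qm Scheme.fppfPrecoverage (CoactBr.action R A B)
  have hq : AlgSt.IsQuasiCompact (QS R A B) := by
    have hs := QuotStLib.repByAlgSpWith_qm_surjective (CoactBr.action R A B)
    haveI : CompactSpace ↥(sp R B).left := inferInstance
    exact isQuasiCompact_of_compactSpace h𝒳.atlas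
      ⟨(surjective_ofChart hs).range_eq ▸ isCompact_range (continuous_ofChart h𝒳.atlas qmB)⟩
  have hY := qcqs_diag_toSelf_of_isAffine (sp R ↥(GLin.invariants R A B))
  have hX : IsAffineHom (pullback.diagonal (sp R B).hom) := by
    haveI : IsAffineHom (sp R B).hom := inferInstance
    infer_instance
  have hXs : AlgSt.IsQuasiSeparatedOver (QS R A B) :=
    repByAlgSpWith_mono (fun _ _ a hH hG h => ⟨isQuasiCompactMor_of_repWith hH hG
        (repWith_mono (fun _ _ g (_ : IsAffineHom g) => (inferInstance : QuasiCompact g))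
          (AlgSpLib.isAffineMor_iff.1 h)),
      isQuasiSeparatedMor_of_isSeparatedMor (isSeparatedMor_of_repWith
        (repWith_mono (fun _ _ g (_ : IsAffineHom g) => (inferInstance : IsSeparated g))
          (AlgSpLib.isAffineMor_iff.1 h)))⟩)
      ((QuotTransLib.diag_affine_iff (CoactBr.action R A B)).2 hX)
  have hS := isAlgStack_ofSch (sp R ↥(GLin.invariants R A B))
  haveI : QuasiSeparatedSpace ↥(Spec (CommRingCat.of R)) := inferInstance
  refine ⟨isQcM_of_isQuasiCompact h𝒳 hS ρ hq hY, ?_⟩
  exact repByAlgSpWith_diag_of_comp (good_qc.inf good_qs).bc (repByAlgSpWith_diag_congr (compToSelfIso ρ) hXs)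
    (repByAlgSpWith_mono (fun _ _ _ _ _ h => h.2) hY)
    fun _ _ _ h₁ h₂ h₃ _ _ hab hb => cancel_qcqs h₁ h₂ h₃ hab hb

variable {R A B}

omit [Module.Flat R A] [Algebra.FinitePresentation R A] in
theorem exists_dat (ρ : QS R A B ⥤ᵇ AlgSt.ofSch (sp R ↥(GLin.invariants R A B)))
    (hρ : BasedFunctor.comp (AlgSt.quotMap Scheme.fppfPrecoverage (sp R A) (CoactBr.action R A B)) ρ =
      AlgSt.ofSpMap ((AlgSp.yon (Spec (CommRingCat.of R))).map (pt (GLin.invariants R A B).val)))
    (ob : (AlgSt.ofSch (sp R ↥(GLin.invariants R A B))).obj) (hob : IsAffine ob.base.left) :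
    ∃ (C : Type u) (_ : CommRing C) (_ : Algebra R C) (_ : Algebra ↥(GLin.invariants R A B) C)
      (_ : IsScalarTower R ↥(GLin.invariants R A B) C), Nonempty (Dat R A B ρ ob C) := by
  let C : Type u := Γ(ob.base.left, ⊤)
  let e := ob.base.left.isoSpec
  let fR := Spec.preimage (e.inv ≫ ob.base.hom)
  let fD := Spec.preimage (e.inv ≫ ob.sec.down.left)
  letI aR : Algebra R C := fR.hom.toAlgebra
  letI aD : Algebra ↥(GLin.invariants R A B) C := fD.hom.toAlgebra
  have hfac : CommRingCat.ofHom (algebraMap R ↥(GLin.invariants R A B)) ≫ fD = fR := by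
    refine Spec.map_injective ?_
    rw [Spec.map_comp, Spec.map_preimage, Spec.map_preimage, Category.assoc]
    exact congrArg (e.inv ≫ ·) (Over.w ob.sec.down)
  haveI hT : IsScalarTower R ↥(GLin.invariants R A B) C :=
    IsScalarTower.of_algebraMap_eq fun r => (congr($hfac r)).symm
  refine ⟨C, inferInstance, aR, aD, hT, ⟨⟨hρ, Over.isoMk e ?_, ?_⟩⟩⟩
  · show e.hom ≫ Spec.map (CommRingCat.ofHom (algebraMap R C)) = ob.base.hom
    rw [show CommRingCat.ofHom (algebraMap R C) = fR from rfl, Spec.map_preimage, Iso.hom_inv_id_assoc]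
  · refine Over.OverMorphism.ext ?_
    show ob.sec.down.left = e.hom ≫ Spec.map (CommRingCat.ofHom (algebraMap ↥(GLin.invariants R A B) C))
    rw [show CommRingCat.ofHom (algebraMap ↥(GLin.invariants R A B) C) = fD from rfl, Spec.map_preimage,
      Iso.hom_inv_id_assoc]

end TameStLib
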