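import Groth.Agent.TameStLib.Comod
import Groth.Agent.TameStLib.Fam
import Groth.Agent.TameStLib.Final

/-!
# Exactness of invariants gives exactness of the direct image
-/

set_option autoImplicit false
set_option linter.style.haveILetI false
set_option backward.isDefEq.respectTransparency false
set_option backward.isDefEq.respectTransparency.types false
set_option maxHeartbeats 1600000

universe u

open CategoryTheory CategoryTheory.Limits MonoidalCategory CartesianMonoidalCategory AlgebraicGeometry FibCat StMod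
open scoped TensorProduct MonObj

noncomputable section

namespace TameStLib

open CoactBr (sp pt)

variable (R : Type u) [CommRing R] (A : Type u) [CommRing A] [HopfAlgebra R A]
variable (B : Type u) [CommRing B] [Algebra R B] [HopfRep.Comod R A B]

/-- Taking invariants of Hopf modules is exact. -/
def InvExact : Prop :=
  ∀ (M N : Type u) [AddCommGroup M] [Module R M] [Module B M] [IsScalarTower R B M]
    [HopfRep.Comod R A M] [TameAct.IsHopfMod R A B M]
    [AddCommGroup N] [Module R N] [Module B N] [IsScalarTower R B N]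
    [HopfRep.Comod R A N] [TameAct.IsHopfMod R A B N] (f : M →ₗ[B] N),
    Hoch.IsComodHom A (f.restrictScalars R) → Function.Surjective f →
      ∀ n ∈ HopfRep.fixedPts R A N, ∃ m ∈ HopfRep.fixedPts R A M, f m = n

variable {R A} {B}

theorem antipode_comm_injective {N : Type u} [AddCommGroup N] [Module R N] :
    Function.Injective fun z : N ⊗[R] A =>
      TensorProduct.map (HopfAlgebra.antipode R) LinearMap.id (TensorProduct.comm R N A z) :=
  Function.LeftInverse.injective
    (g := fun w : A ⊗[R] N =>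
      TensorProduct.comm R A N (TensorProduct.map (HopfAlgebra.antipode R) LinearMap.id w)) fun z => by
    induction z using TensorProduct.induction_on with
    | zero => simp
    | tmul n a => simp [antipode_antipode']
    | add z z' hz hz' => simp only [map_add] at hz hz' ⊢; rw [hz, hz']

variable [GLin.IsCoactAlg R A B]
variable {ρ : QS R A B ⥤ᵇ AlgSt.ofSch (sp R ↥(GLin.invariants R A B))}
  {ob : (AlgSt.ofSch (sp R ↥(GLin.invariants R A B))).obj} {C : Type u} [CommRing C] [Algebra R C]
  [Algebra ↥(GLin.invariants R A B) C] [IsScalarTower R ↥(GLin.invariants R A B) C] (Q : Dat R A B ρ ob C)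

include Q in
theorem surjective_relSectMap_of_invExact [IsFibGrpd (QS R A B).p] (H : InvExact R A B)
    {F G : QCoh (QS R A B)} (u : F ⟶ G) (hu : Mod.IsSurj u.hom) :
    Function.Surjective (Mod.relSectMap ρ u.hom ob) := by
  obtain ⟨p, q, f₀, f₁, f₂, ⟨hp, hq⟩, ⟨h₀, h₁, h₂⟩, e0, e1, e2⟩ := exists_maps Q
  refine surjective_of_chart (chart Q hp hq) u fun v hv => ?_
  haveI : IsAffine (sch (QS R A B) (w₀ Q).left) := inferInstanceAs (IsAffine (Spec (CommRingCat.of (Ω₀ R A B C))))
  letI := modR Q F; letI := modB Q F; haveI := tower Q F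
  letI := modR Q G; letI := modB Q G; haveI := tower Q G
  obtain ⟨τF, IF, hFi, hFt, hFp, hFH⟩ := exists_coact Q hp hq h₀ h₁ h₂ e0 e1 e2 F
  obtain ⟨τG, IG, hGi, hGt, hGp, hGH⟩ := exists_coact Q hp hq h₀ h₁ h₂ e0 e1 e2 G
  letI := IF; letI := IG; haveI := hFH; haveI := hGH
  let U : Γ(F.obj.obj (w₁ Q).left, ⊤) → Γ(G.obj.obj (w₁ Q).left, ⊤) := fun z => (u.hom.app (w₁ Q).left).app ⊤ z
  let f : S₀ Q F →ₗ[B] S₀ Q G :=
    { toFun := fun z => (u.hom.app (w₀ Q).left).app ⊤ z
      map_add' := fun z z' => map_add _ _ _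
      map_smul' := fun b z => Scheme.Modules.Hom.app_smul (u.hom.app (w₀ Q).left) _ z }
  have hnp : ∀ m, G.obj.mapTop p.left (f m) = U (F.obj.mapTop p.left m) := fun m =>
    Mod.mapTop_app u.hom p.left m
  have hnq : ∀ m, G.obj.mapTop q.left (f m) = U (F.obj.mapTop q.left m) := fun m =>
    Mod.mapTop_app u.hom q.left m
  have hU : ∀ z : S₀ Q F ⊗[R] A, τG (TensorProduct.map (HopfAlgebra.antipode R) LinearMap.id
      (TensorProduct.comm R (S₀ Q G) A ((f.restrictScalars R).rTensor A z))) =
        U (τF (TensorProduct.map (HopfAlgebra.antipode R) LinearMap.id (TensorProduct.comm R (S₀ Q F) A z))) :=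
    fun z => by
    induction z using TensorProduct.induction_on with
    | zero => simp [U]
    | tmul n a =>
      rw [LinearMap.rTensor_tmul, TensorProduct.comm_tmul, TensorProduct.comm_tmul, TensorProduct.map_tmul,
        TensorProduct.map_tmul, hGt, hFt]
      show _ • G.obj.mapTop q.left (f n) = _
      rw [hnq]
      exact (Scheme.Modules.Hom.app_smul (u.hom.app (w₁ Q).left) _ _).symm
    | add z z' hz hz' =>
      simp only [map_add, hz, hz']
      exact (map_add ((u.hom.app (w₁ Q).left).app ⊤).hom _ _).symm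
  have hf : Hoch.IsComodHom A (f.restrictScalars R) := LinearMap.ext fun m => by
    show IG.coact (f m) = (f.restrictScalars R).rTensor A (IF.coact m)
    refine antipode_comm_injective (hGi ?_)
    rw [hGp, hnp, hU, hFp]
  have hfix : ∀ {K : QCoh (QS R A B)} [Module R (S₀ Q K)] (τ : A ⊗[R] S₀ Q K →+ Γ(K.obj.obj (w₁ Q).left, ⊤))
      (I : HopfRep.Comod R A (S₀ Q K)) (_ : Function.Injective τ)
      (_ : ∀ a m, τ (a ⊗ₜ[R] m) = toG (Ω₁ R A B C) (a ⊗ₜ[R] 1) • K.obj.mapTop q.left m)
      (_ : ∀ m, τ (TensorProduct.map (HopfAlgebra.antipode R) LinearMap.id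
        (TensorProduct.comm R (S₀ Q K) A (I.coact m))) = K.obj.mapTop p.left m) (z : S₀ Q K),
      I.coact z = z ⊗ₜ[R] (1 : A) ↔ K.obj.mapTop p.left z = K.obj.mapTop q.left z := by
    intro K _ τ I hi ht hp' z
    have e1 : τ (TensorProduct.map (HopfAlgebra.antipode R) LinearMap.id
        (TensorProduct.comm R (S₀ Q K) A (z ⊗ₜ[R] (1 : A)))) = K.obj.mapTop q.left z := by
      rw [TensorProduct.comm_tmul, TensorProduct.map_tmul, ht, HopfAlgebra.antipode_one,
        ← Algebra.TensorProduct.one_def, map_one, one_smul]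
      rfl
    rw [← hp', ← e1]
    exact ⟨fun e => by rw [e], fun e => antipode_comm_injective (hi e)⟩
  obtain ⟨m, hm, hm'⟩ := H (S₀ Q F) (S₀ Q G) f hf (fun z => hu (w₀ Q).left inferInstance z) v
    ((hfix τG IG hGi hGt hGp v).2 hv)
  exact ⟨m, (hfix τF IF hFi hFt hFp m).1 hm, hm'⟩

end TameStLib
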