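import Groth.Agent.TameStLib.Sys
import Groth.Agent.TameStLib.Exact
import Groth.Agent.AlgSpLib.Sep
import Groth.Prelude.Def_StMod2

/-!
# Exactness of the direct image gives exactness of invariants
-/

set_option autoImplicit false
set_option linter.style.haveILetI false
set_option backward.isDefEq.respectTransparency false
set_option backward.isDefEq.respectTransparency.types false
set_option maxHeartbeats 1600000

universe u

open CategoryTheory CategoryTheory.Limits MonoidalCategory CartesianMonoidalCategory AlgebraicGeometry FibCat StMod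
open StPushLib TwDescLib
open scoped TensorProduct MonObj

noncomputable section

namespace TameStLib

open CoactBr (sp pt)

variable {R : Type u} [CommRing R] {A : Type u} [CommRing A] [HopfAlgebra R A]
theorem flat_includeRight [Module.Flat R A] {T : Type u} [CommRing T] [Algebra R T] :
    Flat (Spec.map (CommRingCat.ofHom
      (Algebra.TensorProduct.includeRight : T →ₐ[R] A ⊗[R] T).toRingHom)) := by
  have sq := isPullback_SpecMap_of_isPushout _ _ _ _ (CommRingCat.isPushout_tensorProduct R A T)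
  haveI : Flat (Spec.map (CommRingCat.ofHom (algebraMap R A))) := flat_sp R A
  exact MorphismProperty.of_isPullback (P := @Flat) sq inferInstance

variable {B : Type u} [CommRing B] [Algebra R B] [HopfRep.Comod R A B] [GLin.IsCoactAlg R A B]

/-- The trivialisation of the relations. -/
def P₁ [Module.Flat R A] : Pres (z₁ R A B) :=
  letI aB : Algebra B (A ⊗[R] B) := (incR R A B).toRingHom.toAlgebra
  haveI hT : IsScalarTower R B (A ⊗[R] B) := IsScalarTower.of_algebraMap_eq fun r => ((incR R A B).commutes r).symm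
  { C := A ⊗[R] B
    ring := inferInstance
    algR := inferInstance
    algB := aB
    tower := hT
    flat := flat_incR
    i := Iso.refl _ }

theorem mem_fixed_of_eq [Module.Flat R A] {M : Type u} [AddCommGroup M] [Module R M] [Module B M] [IsScalarTower R B M]
    [HopfRep.Comod R A M] [TameAct.IsHopfMod R A B M] (m : M)
    (h : twC (C' := (P₁ (R := R) (A := A) (B := B)).C) ((incL R A B).comp (HopfAlgebra.antipodeAlgHom R A))
        (one (R := R) (B := B) M (P₁ (R := R) (A := A) (B := B)).C) m =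
      one (R := R) (B := B) M (P₁ (R := R) (A := A) (B := B)).C m) :
    m ∈ HopfRep.fixedPts R A M := by
  letI aB : Algebra B (A ⊗[R] B) := (incR R A B).toRingHom.toAlgebra
  haveI hT : IsScalarTower R B (A ⊗[R] B) := IsScalarTower.of_algebraMap_eq fun r => ((incR R A B).commutes r).symm
  let L : A ⊗[R] B →ₗ[R] M →ₗ[R] M ⊗[R] A := TensorProduct.lift (LinearMap.mk₂ R
    (fun (a : A) (b : B) => (TensorProduct.mk R M A).flip (HopfAlgebra.antipode R a) ∘ₗ Algebra.lsmul R R M b)
    (fun a a' b => LinearMap.ext fun n => by simp [TensorProduct.tmul_add])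
    (fun r a b => LinearMap.ext fun n => by simp)
    (fun a b b' => LinearMap.ext fun n => by simp [add_smul, TensorProduct.add_tmul])
    (fun r a b => LinearMap.ext fun n => by simp [smul_assoc, TensorProduct.smul_tmul', TensorProduct.tmul_smul]))
  let Ψ : (A ⊗[R] B) ⊗[B] M →+ M ⊗[R] A := TensorProduct.liftAddHom
    (AddMonoidHom.mk' (fun z => (L z).toAddMonoidHom) fun z z' => AddMonoidHom.ext fun n => by simp)
    fun b z n => by
      show L (b • z) n = L z (b • n)
      rw [Algebra.smul_def]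
      show L ((1 : A) ⊗ₜ[R] b * z) n = _
      induction z using TensorProduct.induction_on with
      | zero => simp
      | tmul a c =>
        rw [Algebra.TensorProduct.tmul_mul_tmul, one_mul]
        show ((b * c) • n) ⊗ₜ[R] _ = (c • b • n) ⊗ₜ[R] _
        rw [mul_comm, mul_smul]
      | add z z' hz hz' => simp only [mul_add, map_add, LinearMap.add_apply, hz, hz']
  have h1 : ∀ z : M ⊗[R] A,
      Ψ (tw (C' := A ⊗[R] B) ((incL R A B).comp (HopfAlgebra.antipodeAlgHom R A))
        (one (R := R) (B := B) M (A ⊗[R] B)) z) = z := fun z => by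
    induction z using TensorProduct.induction_on with
    | zero => simp
    | tmul n a =>
      rw [tw_tmul, one_apply, TensorProduct.smul_tmul', smul_eq_mul, mul_one]
      show ((1 : B) • n) ⊗ₜ[R] HopfAlgebra.antipode R (HopfAlgebra.antipode R a) = n ⊗ₜ[R] a
      rw [one_smul, antipode_antipode']
    | add z z' hz hz' => simp only [map_add, hz, hz']
  have h2 : Ψ (one (R := R) (B := B) M (A ⊗[R] B) m) = m ⊗ₜ[R] (1 : A) := by
    show ((1 : B) • m) ⊗ₜ[R] HopfAlgebra.antipode R (1 : A) = _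
    rw [one_smul, HopfAlgebra.antipode_one]
  exact ((h1 _).symm.trans (congrArg Ψ h)).trans h2

/-- The chart over the invariants retracts to the total space. -/
theorem exists_retract : ∃ ψ : Ω₀ R A B ↥(GLin.invariants R A B) →ₐ[R] B,
    ψ.comp (xB R A B ↥(GLin.invariants R A B)) = IsScalarTower.toAlgHom R B B := by
  let ψ₀ : Ω₀ R A B ↥(GLin.invariants R A B) →ₐ[↥(GLin.invariants R A B)] B :=
    Algebra.TensorProduct.lift (AlgHom.id ↥(GLin.invariants R A B) B) (Algebra.ofId ↥(GLin.invariants R A B) B)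
      fun _ _ => .all _ _
  refine ⟨ψ₀.restrictScalars R, AlgHom.ext fun b => ?_⟩
  show ψ₀ (b ⊗ₜ[↥(GLin.invariants R A B)] (1 : ↥(GLin.invariants R A B))) = b
  simp [ψ₀]

/-- Morphisms to the coordinate ring of the invariants are unique. -/
theorem hom_to_top {U : Over (Spec (CommRingCat.of R))} {et : (AlgSt.ofSch U).obj} (j : U ⟶ et.base)
    (hj : et.sec.down ≫ j = 𝟙 _) {y : (AlgSt.ofSch U).obj} (a b : y ⟶ et) : a = b := by
  have e : a.hom ≫ et.sec.down = b.hom ≫ et.sec.down :=
    (congrArg ULift.down a.map_sec).trans (congrArg ULift.down b.map_sec).symm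
  refine Stk.EltObj.hom_ext ?_
  calc a.hom = (a.hom ≫ et.sec.down) ≫ j := by rw [Category.assoc, hj, Category.comp_id]
    _ = b.hom := by rw [e, Category.assoc, hj, Category.comp_id]

theorem invExact_of_isCohAffine [Module.Flat R A] [IsFibGrpd (QS R A B).p]
    (ρ : QS R A B ⥤ᵇ AlgSt.ofSch (sp R ↥(GLin.invariants R A B)))
    (hρ : BasedFunctor.comp (AlgSt.quotMap Scheme.fppfPrecoverage (sp R A) (CoactBr.action R A B)) ρ =
      AlgSt.ofSpMap ((AlgSp.yon (Spec (CommRingCat.of R))).map (pt (GLin.invariants R A B).val)))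
    (H : IsCohAffine ρ) : InvExact R A B := by
  intro M N _ _ _ _ _ _ _ _ _ _ _ _ f hf hsur n hn
  have hMem := flatSys (R := R) (A := A) (B := B)
  obtain ⟨PM⟩ := exists_sysMod hMem (hopfSys_good (R := R) (A := A) (B := B) (M := M))
  obtain ⟨PN⟩ := exists_sysMod hMem (hopfSys_good (R := R) (A := A) (B := B) (M := N))
  obtain ⟨u, hu⟩ := SysMod.exists_map hMem PM PN
    (fun z => AddMonoidHom.mk' (fun t => (ULift.up (f.baseChange (presOf z).C t.down) : (hopfSys N).N z))
      fun s t => by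
        show ULift.up (f.baseChange _ (s.down + t.down)) = _
        rw [map_add]; rfl)
    (fun z a t => ULift.ext _ _ ((f.baseChange (presOf z).C).map_smul ((presOf z).χ a) t.down))
    (fun {z' z} l t => ULift.ext _ _ (Pres.th_baseChange f hf l t.down))
  have hus : Mod.IsSurj u.hom := isSurj_of_members u hMem fun z hz y => by
    obtain ⟨t, rfl⟩ := (PN.ι ⟨z, hz⟩).surjective y
    obtain ⟨x, hx⟩ := (LinearMap.lTensor_surjective (presOf (⟨z, hz⟩ : {z // Mem R A B z})).C hsur) t.down
    exact ⟨PM.ι ⟨z, hz⟩ (ULift.up x), (hu ⟨z, hz⟩ (ULift.up x)).trans (congrArg _ (ULift.ext _ _ hx))⟩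
  -- the chart over the invariants
  let D := ↥(GLin.invariants R A B)
  let E : AlgSp.EtOver ((AlgSp.yon (Spec (CommRingCat.of R))).obj (sp R D)) :=
    AlgSp.EtOver.mk (𝟙 _) (AlgSpLib.repWith_of_isIso _)
  let et : (AlgSt.ofSch (sp R D)).obj := StMod.etaOf E
  have hsec : et.sec.down = 𝟙 (sp R D) := rfl
  have huniq : ∀ {y : (AlgSt.ofSch (sp R D)).obj} (a b : y ⟶ et), a = b :=
    fun a b => hom_to_top (𝟙 _) (by rw [hsec]; exact Category.id_comp _) a b
  let Q : Dat R A B ρ et D :=
    { hρ := hρ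
      i := Iso.refl _
      hi := by
        rw [hsec, show IsScalarTower.toAlgHom R D D = AlgHom.id R D from AlgHom.ext fun _ => rfl, CoactBr.pt_id]
        exact (Category.id_comp _).symm }
  obtain ⟨p, q, -, -, -, ⟨hp, hq⟩, -⟩ := exists_maps Q
  let W0 : Pres (w₀ Q).left :=
    { C := Ω₀ R A B D
      ring := inferInstance
      algR := inferInstance
      algB := inferInstance
      tower := inferInstance
      flat := by
        show Flat (Spec.map (CommRingCat.ofHom (algebraMap B (Ω₀ R A B D))))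
        rw [HasRingHomProperty.Spec_iff (P := @Flat), CommRingCat.hom_ofHom]
        exact RingHom.Flat.of_bijective
          (show Function.Bijective ⇑(algebraMap B (Ω₀ R A B D)) from
            (Algebra.TensorProduct.rid D D B).symm.bijective)
      i := Iso.refl _ }
  let wz : {z // Mem R A B z} := ⟨(w₀ Q).left, ⟨W0⟩⟩
  have hqf : Flat (bmap (QS R A B) q.left) := by
    rw [bmap_of_pair hq]
    exact flat_includeRight
  let wz1 : {z // Mem R A B z} := ⟨(w₁ Q).left, mem_of_hom ⟨W0⟩ q.left hqf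
    (inferInstanceAs (IsAffine (Spec (CommRingCat.of (Ω₁ R A B D)))))⟩
  let v : Γ(PN.G.obj.obj (w₀ Q).left, ⊤) := PN.ι wz (ULift.up ((1 : (presOf wz).C) ⊗ₜ[B] n))
  have hv : ∀ (k : (w₁ Q).left ⟶ (w₀ Q).left), PN.G.obj.mapTop k v =
      PN.ι wz1 (ULift.up ((1 : (presOf wz1).C) ⊗ₜ[B] n)) := fun k =>
    (PN.res wz1 wz k _).trans (congrArg (PN.ι wz1) (ULift.ext _ _ (Pres.th_fixed hn k)))
  obtain ⟨t, ht, htv⟩ := CohAffLib.exists_family (M := ((comapQ (fibFst ρ et)).obj PN.G).obj)
    ((comapQ (fibFst ρ et)).obj PN.G).property.1 ((comapQ (fibFst ρ et)).obj PN.G).property.2 (chart Q hp hq) v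
    ((CohAffLib.mapTop_comapFst et PN.G.obj p v).trans ((hv p.left).trans ((hv q.left).symm.trans
      (CohAffLib.mapTop_comapFst et PN.G.obj q v).symm)))
  let s : Mod.RelSect ρ PN.G.obj et := CohAffLib.ofFamily t ht
  obtain ⟨s', hs'⟩ := H u hus E (inferInstanceAs (IsAffine (Spec (CommRingCat.of D)))) s
  -- the universal trivial torsor
  let zz : {z // Mem R A B z} := ⟨z₀ R A B, ⟨P₀ R A B⟩⟩
  obtain ⟨ψ, hψ⟩ := exists_retract (R := R) (A := A) (B := B)
  obtain ⟨c, -⟩ := exists_pair (K := Scheme.fppfPrecoverage) (aX := CoactBr.action R A B) (pt ψ) 1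
    (pt (IsScalarTower.toAlgHom R B B)) (pt (xB R A B D)) (by
      rw [QuotStLib.act_one, ← CoactBr.pt_comp]
      exact congrArg pt hψ)
  let cz : memObj zz ⟶ memObj wz := c
  let α₀ : ρ.obj (z₀ R A B) ⟶ et := ρ.map c ≫ (w₀ Q).hom
  let x := ((PM.ι zz).symm (s'.1 (z₀ R A B) α₀)).down
  have hfx : f.baseChange (presOf zz).C x = (1 : (presOf zz).C) ⊗ₜ[B] n := by
    have e1 : s.1 (z₀ R A B) α₀ = PN.ι zz (ULift.up ((1 : (presOf zz).C) ⊗ₜ[B] n)) := by
      refine (s.2 c (w₀ Q).hom).symm.trans ?_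
      refine (congrArg (PN.G.obj.mapTop c) (show s.1 (w₀ Q).left (w₀ Q).hom = v from htv)).trans ?_
      exact (PN.res zz wz cz _).trans (congrArg (PN.ι zz) (ULift.ext _ _ (Pres.th_fixed hn cz)))
    have e2 : (u.hom.app (z₀ R A B)).app ⊤ (s'.1 (z₀ R A B) α₀) = s.1 (z₀ R A B) α₀ :=
      congrArg (fun r : Mod.RelSect ρ PN.G.obj et => r.1 (z₀ R A B) α₀) hs'
    have e3 := hu zz (ULift.up x)
    rw [show (ULift.up x : (hopfSys M).N zz) = (PM.ι zz).symm (s'.1 (z₀ R A B) α₀) from rfl,
      AddEquiv.apply_symm_apply] at e3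
    exact congrArg ULift.down ((PN.ι zz).injective (e3.symm.trans (e2.trans e1)))
  obtain ⟨p₀', q₀', hp', hq'⟩ := exists_maps₀ (R := R) (A := A) (B := B)
  let zz1 : {z // Mem R A B z} := ⟨z₁ R A B, ⟨P₁⟩⟩
  let α₁ : ρ.obj (z₁ R A B) ⟶ et := ρ.map q₀' ≫ α₀
  have hinv : ∀ k : memObj zz1 ⟶ memObj zz,
      Pres.th (presOf zz) (presOf zz1) M k x = ((PM.ι zz1).symm (s'.1 (z₁ R A B) α₁)).down := fun k => by
    have e := (PM.res zz1 zz k (ULift.up x)).symm
    rw [show (ULift.up x : (hopfSys M).N zz) = (PM.ι zz).symm (s'.1 (z₀ R A B) α₀) from rfl,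
      AddEquiv.apply_symm_apply] at e
    have e' := e.trans ((s'.2 k α₀).trans (congrArg (s'.1 (z₁ R A B)) (huniq _ α₁)))
    refine congrArg ULift.down (((PM.ι zz1).symm_apply_eq).2 e'.symm).symm
  let y0 := Pres.th (presOf zz) (P₀ R A B) M (𝟙 (z₀ R A B)) x
  have hy : ∀ k : z₁ R A B ⟶ z₀ R A B, Pres.th (P₀ R A B) P₁ M k y0 =
      Pres.th (presOf zz1) P₁ M (𝟙 (z₁ R A B)) ((PM.ι zz1).symm (s'.1 (z₁ R A B) α₁)).down := fun k => by
    rw [← hinv k]
    refine (Pres.th_comp (P := presOf zz) (P' := P₀ R A B) (P'' := P₁) k (𝟙 (z₀ R A B)) x).symm.trans ?_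
    refine Eq.trans ?_ (Pres.th_comp (P := presOf zz) (P' := presOf zz1) (P'' := P₁) (𝟙 (z₁ R A B)) k x)
    rw [Category.comp_id, Category.id_comp]
  let m : M := TensorProduct.lid B M y0
  have hm : (one (R := R) (B := B) M (P₀ R A B).C) m = y0 := (TensorProduct.lid B M).symm_apply_apply y0
  have hcp : (P₀ R A B).IsCoord P₁ p₀' (actHom R A B) ((incL R A B).comp (HopfAlgebra.antipodeAlgHom R A)) := by
    show IsPair (𝟙 _ ≫ p₀' ≫ 𝟙 _) _ _
    rw [Category.id_comp, Category.comp_id, ← CoactBr.pt_inv]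
    exact hp'
  have hcq : (P₀ R A B).IsCoord P₁ q₀' (incR R A B) (unitPt R A (A ⊗[R] B)) := by
    show IsPair (𝟙 _ ≫ q₀' ≫ 𝟙 _) _ _
    rw [Category.id_comp, Category.comp_id, show pt (unitPt R A (A ⊗[R] B)) = 1 from CoactBr.one_eq_pt.symm]
    exact hq'
  refine ⟨m, mem_fixed_of_eq (B := B) m ?_, ?_⟩
  · refine (LinearMap.congr_fun (Pres.th_one (M := M) hcp) m).symm.trans ?_
    refine Eq.trans ?_ (LinearMap.congr_fun ((Pres.th_one (M := M) hcq).trans (twC_unit _)) m)
    show Pres.th (P₀ R A B) P₁ M p₀' (one M _ m) = Pres.th (P₀ R A B) P₁ M q₀' (one M _ m)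
    rw [hm, hy, hy]
  · have e : f.baseChange (P₀ R A B).C y0 = (1 : (P₀ R A B).C) ⊗ₜ[B] n := by
      rw [← Pres.th_baseChange f hf, hfx]
      exact Pres.th_fixed hn _
    rw [← hm, one_apply, LinearMap.baseChange_tmul] at e
    have e' := congrArg (TensorProduct.lid B N) e
    exact (one_smul B (f m)).symm.trans (e'.trans (one_smul B n))

end TameStLib
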