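import Groth.Prelude.Def_CoactBr
import Groth.Prelude.Def_Hoch
import Groth.Agent.QuotStLib.Basic

/-!
# The algebra of the chart of an affine quotient stack over an algebra over the invariants
-/

set_option autoImplicit false
set_option linter.style.haveILetI false
set_option backward.isDefEq.respectTransparency false
set_option backward.isDefEq.respectTransparency.types false

universe u

open CategoryTheory MonoidalCategory CartesianMonoidalCategory AlgebraicGeometry
open scoped TensorProduct MonObj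

noncomputable section

namespace TameStLib

variable (R : Type u) [CommRing R] (A : Type u) [CommRing A] [HopfAlgebra R A]
variable (B : Type u) [CommRing B] [Algebra R B] [HopfRep.Comod R A B] [GLin.IsCoactAlg R A B]
variable (C : Type u) [CommRing C] [Algebra R C] [Algebra ↥(GLin.invariants R A B) C]
  [IsScalarTower R ↥(GLin.invariants R A B) C]

/-- The ring of the chart. -/
abbrev Ω₀ : Type u := B ⊗[↥(GLin.invariants R A B)] C

/-- The ring of the relations. -/
abbrev Ω₁ : Type u := A ⊗[R] (Ω₀ R A B C)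

instance instCommRingΩ₁ : CommRing (Ω₁ R A B C) := inferInstance

instance instAlgebraΩ₁ : Algebra R (Ω₁ R A B C) := inferInstance

/-- The ring of the pairs of relations. -/
abbrev Ω₂ : Type u := A ⊗[R] (Ω₁ R A B C)

/-- The coordinates on `B`. -/
def xB : B →ₐ[R] Ω₀ R A B C :=
  (Algebra.TensorProduct.includeLeft : B →ₐ[↥(GLin.invariants R A B)] Ω₀ R A B C).restrictScalars R

/-- The coordinates on `C`. -/
def xC : C →ₐ[R] Ω₀ R A B C :=
  (Algebra.TensorProduct.includeRight : C →ₐ[↥(GLin.invariants R A B)] Ω₀ R A B C).restrictScalars R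

/-- The projection. -/
def qHom : Ω₀ R A B C →ₐ[R] Ω₁ R A B C := Algebra.TensorProduct.includeRight

/-- The coordinates on the group. -/
def aHom : A →ₐ[R] Ω₁ R A B C := Algebra.TensorProduct.includeLeft

/-- The action on `B`. -/
def p₀ : B →ₐ[R] Ω₁ R A B C :=
  (Algebra.TensorProduct.lift ((qHom R A B C).comp (xB R A B C))
    ((aHom R A B C).comp (HopfAlgebra.antipodeAlgHom R A)) fun _ _ => .all _ _).comp (GLin.coactAlgHom R A B)

theorem p₀_invariant (d : ↥(GLin.invariants R A B)) :
    p₀ R A B C (d : B) = qHom R A B C (xB R A B C (d : B)) := by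
  simp [p₀, (GLin.mem_invariants_iff R A B (d : B)).1 d.2]

theorem xB_eq_xC (d : ↥(GLin.invariants R A B)) :
    xB R A B C (d : B) = xC R A B C (algebraMap _ C d) :=
  ((Algebra.TensorProduct.includeLeft : B →ₐ[↥(GLin.invariants R A B)] Ω₀ R A B C).commutes d).trans
    ((Algebra.TensorProduct.includeRight : C →ₐ[↥(GLin.invariants R A B)] Ω₀ R A B C).commutes d).symm

/-- The action. -/
def pHom : Ω₀ R A B C →ₐ[R] Ω₁ R A B C :=
  letI : Algebra ↥(GLin.invariants R A B) (Ω₁ R A B C) :=
    ((qHom R A B C).toRingHom.comp (algebraMap _ (Ω₀ R A B C))).toAlgebra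
  haveI : IsScalarTower R ↥(GLin.invariants R A B) (Ω₁ R A B C) := IsScalarTower.of_algebraMap_eq fun r => by
    show _ = qHom R A B C (algebraMap _ (Ω₀ R A B C) (algebraMap R _ r))
    rw [← IsScalarTower.algebraMap_apply, AlgHom.commutes]
  (Algebra.TensorProduct.lift (S := ↥(GLin.invariants R A B))
    ({ toRingHom := (p₀ R A B C).toRingHom, commutes' := fun d => p₀_invariant R A B C d } :
      B →ₐ[↥(GLin.invariants R A B)] Ω₁ R A B C)
    ({ toRingHom := (qHom R A B C).toRingHom.comp (xC R A B C).toRingHom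
       commutes' := fun d => by
        show qHom R A B C (xC R A B C (algebraMap _ C d)) = qHom R A B C (algebraMap _ (Ω₀ R A B C) d)
        rw [← xB_eq_xC]; rfl } : C →ₐ[↥(GLin.invariants R A B)] Ω₁ R A B C)
    fun _ _ => .all _ _).restrictScalars R

theorem pHom_xB (b : B) : pHom R A B C (xB R A B C b) = p₀ R A B C b := by
  simp [pHom, xB]

theorem pHom_xC (c : C) : pHom R A B C (xC R A B C c) = qHom R A B C (xC R A B C c) := by
  simp [pHom, xC]

/-- The first face. -/
def d₀ : Ω₁ R A B C →ₐ[R] Ω₂ R A B C := Algebra.TensorProduct.map (AlgHom.id R A) (pHom R A B C)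

/-- The third face. -/
def d₂ : Ω₁ R A B C →ₐ[R] Ω₂ R A B C := Algebra.TensorProduct.includeRight

/-- The second face. -/
def d₁ : Ω₁ R A B C →ₐ[R] Ω₂ R A B C :=
  (Algebra.TensorProduct.assoc R R R A A (Ω₀ R A B C)).toAlgHom.comp
    (Algebra.TensorProduct.map (Bialgebra.comulAlgHom R A) (AlgHom.id R (Ω₀ R A B C)))

theorem d₀_q (ω : Ω₀ R A B C) : d₀ R A B C (qHom R A B C ω) = d₂ R A B C (pHom R A B C ω) := by
  simp [d₀, d₂, qHom]

theorem d₁_q (ω : Ω₀ R A B C) : d₁ R A B C (qHom R A B C ω) = d₂ R A B C (qHom R A B C ω) := by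
  simp [d₁, d₂, qHom, Algebra.TensorProduct.one_def]

/-- The first group point on pairs. -/
def gPt : CoactBr.sp R (Ω₂ R A B C) ⟶ CoactBr.sp R A :=
  CoactBr.pt (Algebra.TensorProduct.includeLeft : A →ₐ[R] Ω₂ R A B C)

/-- The second group point on pairs. -/
def hPt : CoactBr.sp R (Ω₂ R A B C) ⟶ CoactBr.sp R A := CoactBr.pt ((d₂ R A B C).comp (aHom R A B C))

theorem pt_d₀_a : CoactBr.pt ((d₀ R A B C).comp (aHom R A B C)) = gPt R A B C := by
  refine congrArg CoactBr.pt (AlgHom.ext fun a => ?_)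
  simp [d₀, aHom]

theorem pt_d₁_a : CoactBr.pt ((d₁ R A B C).comp (aHom R A B C)) = gPt R A B C * hPt R A B C := by
  rw [gPt, hPt, CoactBr.pt_mul_pt]
  refine congrArg CoactBr.pt (AlgHom.ext fun a => ?_)
  show (Algebra.TensorProduct.assoc R R R A A (Ω₀ R A B C)) (CoalgebraStruct.comul (R := R) a ⊗ₜ[R] 1) = _
  simp only [AlgHom.comp_apply, Bialgebra.comulAlgHom_apply]
  generalize CoalgebraStruct.comul (R := R) a = x
  induction x using TensorProduct.induction_on with
  | zero => simp
  | tmul a b => simp [d₂, aHom]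
  | add x y hx hy => simp [TensorProduct.add_tmul, hx, hy]

/-- The action of the group point on relations. -/
theorem pt_p_xB : lift (CoactBr.pt (aHom R A B C)) (CoactBr.pt ((qHom R A B C).comp (xB R A B C))) ≫
    (CoactBr.action R A B).act = CoactBr.pt ((pHom R A B C).comp (xB R A B C)) := by
  rw [CoactBr.lift_pt_action_act]
  refine congrArg CoactBr.pt (AlgHom.ext fun b => ?_)
  rw [AlgHom.comp_apply (pHom R A B C), pHom_xB]
  rfl

theorem d₀_p (ω : Ω₀ R A B C) : d₀ R A B C (pHom R A B C ω) = d₁ R A B C (pHom R A B C ω) := by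
  have hB : ((d₀ R A B C).comp (pHom R A B C)).comp (xB R A B C) =
      ((d₁ R A B C).comp (pHom R A B C)).comp (xB R A B C) := by
    refine CoactBr.pt_injective ?_
    rw [AlgHom.comp_assoc, AlgHom.comp_assoc, CoactBr.pt_comp (φ := (pHom R A B C).comp (xB R A B C)) (ψ := d₀ R A B C),
      CoactBr.pt_comp (φ := (pHom R A B C).comp (xB R A B C)) (ψ := d₁ R A B C), ← pt_p_xB, comp_lift_assoc,
      comp_lift_assoc, ← CoactBr.pt_comp, ← CoactBr.pt_comp, ← CoactBr.pt_comp, ← CoactBr.pt_comp, pt_d₀_a, pt_d₁_a,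
      QuotStLib.act_mul]
    refine congrArg (fun t => lift _ t ≫ _) ?_
    have e0 : (d₀ R A B C).comp ((qHom R A B C).comp (xB R A B C)) =
        (d₂ R A B C).comp ((pHom R A B C).comp (xB R A B C)) := AlgHom.ext fun b => d₀_q R A B C _
    have e1 : (d₁ R A B C).comp ((qHom R A B C).comp (xB R A B C)) =
        (d₂ R A B C).comp ((qHom R A B C).comp (xB R A B C)) := AlgHom.ext fun b => d₁_q R A B C _
    rw [e0, e1, CoactBr.pt_comp, ← pt_p_xB, comp_lift_assoc, ← CoactBr.pt_comp, ← CoactBr.pt_comp]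
    rfl
  induction ω using TensorProduct.induction_on with
  | zero => simp
  | add x y hx hy => simp [hx, hy]
  | tmul b c =>
    have e : b ⊗ₜ[↥(GLin.invariants R A B)] c = xB R A B C b * xC R A B C c := by simp [xB, xC]
    rw [e, map_mul, map_mul, map_mul, pHom_xC, d₀_q, d₁_q, pHom_xC]
    exact congrArg (· * _) (AlgHom.congr_fun hB b)

section Integral

variable (α : A →ₗ[R] B)

/-- Integration along the group. -/
def Φ : Ω₁ R A B C →ₗ[R] Ω₀ R A B C :=
  LinearMap.mul' R (Ω₀ R A B C) ∘ₗ TensorProduct.map ((xB R A B C).toLinearMap ∘ₗ α) LinearMap.id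

/-- Integration of the first variable. -/
def Φ' : Ω₂ R A B C →ₗ[R] Ω₁ R A B C :=
  LinearMap.mul' R (Ω₁ R A B C) ∘ₗ TensorProduct.map ((p₀ R A B C).toLinearMap ∘ₗ α) LinearMap.id

@[simp] theorem Φ_tmul (a : A) (ω : Ω₀ R A B C) : Φ R A B C α (a ⊗ₜ[R] ω) = xB R A B C (α a) * ω := rfl

@[simp] theorem Φ'_tmul (a : A) (υ : Ω₁ R A B C) : Φ' R A B C α (a ⊗ₜ[R] υ) = p₀ R A B C (α a) * υ := rfl

theorem Φ_q_mul (ω : Ω₀ R A B C) (f : Ω₁ R A B C) :
    Φ R A B C α (qHom R A B C ω * f) = ω * Φ R A B C α f := by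
  induction f using TensorProduct.induction_on with
  | zero => simp
  | tmul a w => simp [qHom, mul_left_comm]
  | add x y hx hy => simp [mul_add, hx, hy]

theorem Φ'_d₂_mul (υ : Ω₁ R A B C) (f : Ω₂ R A B C) :
    Φ' R A B C α (d₂ R A B C υ * f) = υ * Φ' R A B C α f := by
  induction f using TensorProduct.induction_on with
  | zero => simp
  | tmul a w => simp [d₂, mul_left_comm]
  | add x y hx hy => simp [mul_add, hx, hy]

theorem Φ_one (h1 : α 1 = 1) : Φ R A B C α 1 = 1 := by
  rw [Algebra.TensorProduct.one_def, Φ_tmul, h1, map_one, mul_one]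

theorem Φ'_d₀ (f : Ω₁ R A B C) : Φ' R A B C α (d₀ R A B C f) = pHom R A B C (Φ R A B C α f) := by
  induction f using TensorProduct.induction_on with
  | zero => simp
  | tmul a w => simp [d₀, pHom_xB]
  | add x y hx hy => simp [hx, hy]

theorem p₀_α (hα : Hoch.IsComodHom A α) (a : A) :
    (LinearMap.mul' R (Ω₁ R A B C) ∘ₗ TensorProduct.map ((p₀ R A B C).toLinearMap ∘ₗ α) (aHom R A B C).toLinearMap)
      (CoalgebraStruct.comul (R := R) a) = qHom R A B C (xB R A B C (α a)) := by
  let T : A ⊗[R] (A ⊗[R] A) →ₗ[R] Ω₁ R A B C :=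
    LinearMap.mul' R (Ω₁ R A B C) ∘ₗ TensorProduct.map ((qHom R A B C).toLinearMap ∘ₗ (xB R A B C).toLinearMap ∘ₗ α)
      ((aHom R A B C).toLinearMap ∘ₗ LinearMap.mul' R A ∘ₗ TensorProduct.map (HopfAlgebra.antipode R) LinearMap.id)
  have h2 : ∀ b, HopfRep.Comod.coact (k := R) (A := A) (α b) =
      α.rTensor A (CoalgebraStruct.comul (R := R) b) := LinearMap.congr_fun hα
  have h3 : ∀ (b c : A), p₀ R A B C (α b) * aHom R A B C c =
      T (TensorProduct.assoc R A A A (CoalgebraStruct.comul (R := R) b ⊗ₜ[R] c)) := fun b c => by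
    simp only [p₀, AlgHom.comp_apply, GLin.coactAlgHom_apply, h2]
    generalize CoalgebraStruct.comul (R := R) b = x
    induction x using TensorProduct.induction_on with
    | zero => simp
    | tmul s t => simp [T, mul_assoc]
    | add x y hx hy => simp [TensorProduct.add_tmul, add_mul, hx, hy]
  have h4 : (LinearMap.mul' R (Ω₁ R A B C) ∘ₗ
      TensorProduct.map ((p₀ R A B C).toLinearMap ∘ₗ α) (aHom R A B C).toLinearMap) =
      T ∘ₗ (TensorProduct.assoc R A A A).toLinearMap ∘ₗ (CoalgebraStruct.comul (R := R)).rTensor A := by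
    ext b c
    exact h3 b c
  rw [h4]
  show T (TensorProduct.assoc R A A A ((CoalgebraStruct.comul (R := R)).rTensor A (CoalgebraStruct.comul a))) = _
  rw [Coalgebra.coassoc_apply]
  have h5 : T ∘ₗ (CoalgebraStruct.comul (R := R)).lTensor A =
      ((qHom R A B C).toLinearMap ∘ₗ (xB R A B C).toLinearMap ∘ₗ α) ∘ₗ
        (TensorProduct.rid R A).toLinearMap ∘ₗ (CoalgebraStruct.counit (R := R)).lTensor A := by
    ext b c
    have h6 : LinearMap.mul' R A (TensorProduct.map (HopfAlgebra.antipode R) LinearMap.id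
        (CoalgebraStruct.comul (R := R) c)) = algebraMap R A (CoalgebraStruct.counit c) :=
      HopfAlgebra.mul_antipode_rTensor_comul_apply c
    simp [T, h6, aHom]
    rw [show (algebraMap R A) (CoalgebraStruct.counit c) ⊗ₜ[R] (1 : Ω₀ R A B C) =
        algebraMap R (Ω₁ R A B C) (CoalgebraStruct.counit c) from rfl]
    rw [← Algebra.commutes, ← Algebra.smul_def]
  refine (LinearMap.congr_fun h5 (CoalgebraStruct.comul (R := R) a)).trans ?_
  simp

theorem Φ'_d₁ (hα : Hoch.IsComodHom A α) (f : Ω₁ R A B C) :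
    Φ' R A B C α (d₁ R A B C f) = qHom R A B C (Φ R A B C α f) := by
  induction f using TensorProduct.induction_on with
  | zero => simp
  | add x y hx hy => simp [hx, hy]
  | tmul a w =>
    have key := p₀_α R A B C α hα a
    show Φ' R A B C α ((Algebra.TensorProduct.assoc R R R A A (Ω₀ R A B C))
      (CoalgebraStruct.comul (R := R) a ⊗ₜ[R] w)) = qHom R A B C (xB R A B C (α a) * w)
    rw [map_mul, ← key]
    generalize CoalgebraStruct.comul (R := R) a = x
    induction x using TensorProduct.induction_on with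
    | zero => simp
    | tmul s t => simp [aHom, qHom, mul_assoc]
    | add x y hx hy => simp only [TensorProduct.add_tmul, map_add, add_mul, hx, hy]

end Integral

end TameStLib
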