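import Groth.Agent.TameStLib.Pres
import Groth.Agent.TameStLib.Final

/-!
# The trivialised members form a flat system
-/

set_option autoImplicit false
set_option linter.style.haveILetI false
set_option backward.isDefEq.respectTransparency false
set_option backward.isDefEq.respectTransparency.types false
set_option maxHeartbeats 800000

universe u

open CategoryTheory CategoryTheory.Limits MonoidalCategory CartesianMonoidalCategory AlgebraicGeometry FibCat StMod
open StPushLib TwDescLib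
open scoped TensorProduct MonObj

noncomputable section

namespace TameStLib

open CoactBr (sp pt)

variable (R : Type u) [CommRing R] (A : Type u) [CommRing A] [HopfAlgebra R A]
variable (B : Type u) [CommRing B] [Algebra R B] [HopfRep.Comod R A B] [GLin.IsCoactAlg R A B]

/-- The universal trivial torsor. -/
abbrev z₀ : (QS R A B).obj := tv (pt (IsScalarTower.toAlgHom R B B))

theorem x₀_eq : pt (IsScalarTower.toAlgHom R B B) = 𝟙 (sp R B) := by
  rw [← CoactBr.pt_id]
  exact congrArg pt (AlgHom.ext fun _ => rfl)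

/-- The objects over affine schemes flat over the total space. -/
def Mem (z : (QS R A B).obj) : Prop := Nonempty (Pres z)

/-- The canonical presentation. -/
def P₀ : Pres (z₀ R A B) where
  C := B
  ring := inferInstance
  algR := inferInstance
  algB := Algebra.id B
  tower := inferInstance
  flat := by rw [x₀_eq]; exact inferInstanceAs (Flat (𝟙 _))
  i := Iso.refl _

/-- The second projection. -/
abbrev incR : B →ₐ[R] A ⊗[R] B := Algebra.TensorProduct.includeRight

/-- The first projection. -/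
abbrev incL : A →ₐ[R] A ⊗[R] B := Algebra.TensorProduct.includeLeft

/-- The action. -/
def actHom : B →ₐ[R] A ⊗[R] B :=
  (Algebra.TensorProduct.lift (incR R A B) ((incL R A B).comp (HopfAlgebra.antipodeAlgHom R A))
    fun _ _ => .all _ _).comp (GLin.coactAlgHom R A B)

theorem act_eq : lift (pt (incL R A B)) (pt (incR R A B)) ≫ (CoactBr.action R A B).act = pt (actHom R A B) :=
  CoactBr.lift_pt_action_act _ _

/-- The relations. -/
abbrev z₁ : (QS R A B).obj := tv (pt (incR R A B))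

variable {R A B}

theorem flat_incR [Module.Flat R A] : Flat (pt (incR R A B)).left := by
  have sq := isPullback_SpecMap_of_isPushout _ _ _ _ (CommRingCat.isPushout_tensorProduct R A B)
  haveI : Flat (Spec.map (CommRingCat.ofHom (algebraMap R A))) := flat_sp R A
  exact MorphismProperty.of_isPullback (P := @Flat) sq inferInstance

variable [IsFibGrpd (QS R A B).p]

/-- An object over a trivial torsor is trivial. -/
theorem exists_iso_tv {y : (QS R A B).obj} {T T' : Over (Spec (CommRingCat.of R))} {x : T' ⟶ sp R B}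
    (a : y ⟶ tv x) (e : T ≅ y.base) : Nonempty (tv (e.hom ≫ a.base ≫ x) ≅ y) := by
  obtain ⟨k, hk⟩ := exists_pair (K := Scheme.fppfPrecoverage) (aX := CoactBr.action R A B) (e.hom ≫ a.base) 1
    (e.hom ≫ a.base ≫ x) x (by rw [Category.assoc]; exact QuotStLib.act_one _ _)
  have hkb : bmap (QS R A B) k = e.hom.left ≫ bmap (QS R A B) a := by
    show k.base.left = _
    rw [hk.1]; rfl
  let θ : tv (e.hom ≫ a.base ≫ x) ⟶ y := liftTo a k e.hom.left hkb.symm
  let θ' : y ⟶ tv (e.hom ≫ a.base ≫ x) := liftTo k a e.inv.left (by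
    rw [hkb, ← Category.assoc, ← Over.comp_left, e.inv_hom_id]
    exact Category.id_comp _)
  refine ⟨⟨θ, θ', hom_ext_base (g := k) ?_ ?_, hom_ext_base (g := a) ?_ ?_⟩⟩
  · rw [bmap_comp, bmap_liftTo, bmap_liftTo, bmap_id, ← Over.comp_left, e.hom_inv_id]; rfl
  · rw [Category.assoc, liftTo_fac, liftTo_fac, Category.id_comp]
  · rw [bmap_comp, bmap_liftTo, bmap_liftTo, bmap_id, ← Over.comp_left, e.inv_hom_id]; rfl
  · rw [Category.assoc, liftTo_fac, liftTo_fac, Category.id_comp]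

theorem mem_of_hom {y z : (QS R A B).obj} (hz : Mem R A B z) (c : y ⟶ z) (hc : Flat (bmap (QS R A B) c))
    (hy : IsAffine (sch (QS R A B) y)) : Mem R A B y := by
  obtain ⟨P⟩ := hz
  let C' : Type u := Γ(sch (QS R A B) y, ⊤)
  let e0 := (sch (QS R A B) y).isoSpec
  let fR := Spec.preimage (e0.inv ≫ y.base.hom)
  letI aR : Algebra R C' := fR.hom.toAlgebra
  let e : sp R C' ≅ y.base := Over.isoMk e0.symm (by
    show e0.inv ≫ y.base.hom = Spec.map (CommRingCat.ofHom (algebraMap R C'))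
    rw [show CommRingCat.ofHom (algebraMap R C') = fR from rfl, Spec.map_preimage])
  obtain ⟨φ, hφ⟩ := exists_pt (e.hom ≫ (c ≫ P.i.hom).base)
  obtain ⟨j⟩ := exists_iso_tv (c ≫ P.i.hom) e
  letI aB : Algebra B C' := (φ.comp P.β).toRingHom.toAlgebra
  haveI hT : IsScalarTower R B C' := IsScalarTower.of_algebraMap_eq fun r => ((φ.comp P.β).commutes r).symm
  have hβ : pt (IsScalarTower.toAlgHom R B C') = e.hom ≫ (c ≫ P.i.hom).base ≫ pt P.β := by
    rw [← Category.assoc, ← hφ, ← CoactBr.pt_comp]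
    exact congrArg pt (AlgHom.ext fun _ => rfl)
  refine ⟨⟨C', inferInstance, aR, aB, hT, ?_, j.symm ≪≫ eqToIso (congrArg tv hβ.symm)⟩⟩
  rw [hβ, Over.comp_left, Over.comp_left]
  haveI := hc
  haveI := P.flat
  haveI := StPushLib.isIso_bmap P.i.hom
  haveI : IsIso e.hom.left := inferInstanceAs (IsIso ((Over.forget _).map e.hom))
  haveI : Flat (bmap (QS R A B) (c ≫ P.i.hom)) := by rw [bmap_comp]; infer_instance
  exact inferInstanceAs (Flat (e.hom.left ≫ bmap (QS R A B) (c ≫ P.i.hom) ≫ (pt P.β).left))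

theorem hom_ext_z₁ {y : (QS R A B).obj} {p q : z₁ R A B ⟶ z₀ R A B}
    (hp : IsPair p (pt (actHom R A B)) (pt (incL R A B))⁻¹) (hq : IsPair q (pt (incR R A B)) 1)
    {e e' : y ⟶ z₁ R A B} (h1 : e ≫ p = e' ≫ p) (h2 : e ≫ q = e' ≫ q) : e = e' := by
  obtain ⟨x, ⟨j⟩⟩ : ∃ x : y.base ⟶ sp R B, Nonempty (tv x ≅ y) := ⟨_, exists_iso_tv (e ≫ q) (Iso.refl _)⟩
  rw [← cancel_epi j.hom]
  obtain ⟨f, g, -, hk⟩ := exists_isPair (j.hom ≫ e)
  obtain ⟨f', g', -, hk'⟩ := exists_isPair (j.hom ≫ e')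
  have e2 : j.hom ≫ e ≫ q = j.hom ≫ e' ≫ q := congrArg (j.hom ≫ ·) h2
  have e1 : j.hom ≫ e ≫ p = j.hom ≫ e' ≫ p := congrArg (j.hom ≫ ·) h1
  rw [← Category.assoc, ← Category.assoc] at e1 e2
  obtain ⟨a1, a2⟩ := IsPair.unique (hk.comp hq) (by rw [e2]; exact hk'.comp hq)
  obtain ⟨-, b2⟩ := IsPair.unique (hk.comp hp) (by rw [e1]; exact hk'.comp hp)
  rw [MonObj.comp_one, MonObj.comp_one, mul_one, mul_one] at a2
  subst a2
  rw [GrpObj.comp_inv, GrpObj.comp_inv, mul_right_inj, inv_inj] at b2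
  refine hk.ext hk' ?_ rfl
  obtain ⟨u, -, -, hu⟩ := exists_lift_tensor (R := R) (T := R) (incL R A B) (incR R A B) (fun _ => rfl)
    (fun _ => rfl) (f ≫ pt (incL R A B)) (f ≫ pt (incR R A B))
    ((Over.w (f ≫ pt (incL R A B))).trans (Over.w (f ≫ pt (incR R A B))).symm)
  rw [hu f rfl rfl, hu f' b2.symm a1.symm]

theorem exists_maps₀ : ∃ p q : z₁ R A B ⟶ z₀ R A B,
    IsPair p (pt (actHom R A B)) (pt (incL R A B))⁻¹ ∧ IsPair q (pt (incR R A B)) 1 := by
  obtain ⟨p, hp⟩ := exists_pair (K := Scheme.fppfPrecoverage) (aX := CoactBr.action R A B) (pt (actHom R A B))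
    (pt (incL R A B))⁻¹ (pt (incR R A B)) (pt (IsScalarTower.toAlgHom R B B)) (by
      rw [x₀_eq, Category.comp_id, ← act_eq, act_inv_cancel])
  obtain ⟨q, hq⟩ := exists_pair (K := Scheme.fppfPrecoverage) (aX := CoactBr.action R A B) (pt (incR R A B))
    1 (pt (incR R A B)) (pt (IsScalarTower.toAlgHom R B B)) (by
      rw [x₀_eq, Category.comp_id]; exact QuotStLib.act_one _ _)
  exact ⟨p, q, hp, hq⟩

theorem relAtlas_z₁ {p q : z₁ R A B ⟶ z₀ R A B} (hp : IsPair p (pt (actHom R A B)) (pt (incL R A B))⁻¹)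
    (hq : IsPair q (pt (incR R A B)) 1) : RelAtlas p q := by
  intro y a b
  obtain ⟨x, ⟨j⟩⟩ : ∃ x : y.base ⟶ sp R B, Nonempty (tv x ≅ y) := ⟨_, exists_iso_tv a (Iso.refl _)⟩
  obtain ⟨fa, ga, hga, hpa⟩ := exists_isPair (j.hom ≫ a)
  obtain ⟨fb, gb, hgb, hpb⟩ := exists_isPair (j.hom ≫ b)
  rw [x₀_eq, Category.comp_id] at hga hgb
  obtain ⟨f, hf₁, hf₂, -⟩ := exists_lift_tensor (R := R) (T := R) (incL R A B) (incR R A B) (fun _ => rfl)
    (fun _ => rfl) (ga⁻¹ * gb) fb ((Over.w (ga⁻¹ * gb)).trans (Over.w fb).symm)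
  have hfp : f ≫ pt (actHom R A B) = fa := by
    rw [← act_eq, comp_lift_assoc, hf₁, hf₂, QuotStLib.act_mul, hgb, ← hga, act_inv_cancel]
  obtain ⟨k, hk⟩ := exists_pair (K := Scheme.fppfPrecoverage) (aX := CoactBr.action R A B) f gb
    x (pt (incR R A B)) (by rw [hf₂, hgb])
  have k1 : k ≫ p = j.hom ≫ a := by
    refine (hk.comp hp).ext hpa hfp ?_
    rw [GrpObj.comp_inv, hf₁, mul_inv_rev, inv_inv, ← mul_assoc, mul_inv_cancel, one_mul]
  have k2 : k ≫ q = j.hom ≫ b := by
    refine (hk.comp hq).ext hpb hf₂ ?_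
    rw [MonObj.comp_one, mul_one]
  refine ⟨y, 𝟙 y, j.inv ≫ k, ?_, ?_, ?_, ?_, fun y'' d e' h1 h2 => ⟨d, ⟨Category.comp_id d, ?_⟩, fun θ hθ => ?_⟩⟩
  · rw [bmap_id]; infer_instance
  · rw [bmap_id]; infer_instance
  · rw [Category.assoc, k1, Iso.inv_hom_id_assoc, Category.id_comp]
  · rw [Category.assoc, k2, Iso.inv_hom_id_assoc, Category.id_comp]
  · refine hom_ext_z₁ hp hq ?_ ?_
    · rw [Category.assoc, Category.assoc, k1, Iso.inv_hom_id_assoc, h1]
    · rw [Category.assoc, Category.assoc, k2, Iso.inv_hom_id_assoc, h2]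
  · exact (Category.comp_id θ).symm.trans hθ.1

theorem flatSys [Module.Flat R A] : FlatSys (Mem R A B) where
  aff z h := h.some.isAffine
  down y z c hz hc hy := mem_of_hom hz c hc hy
  loc y := by
    obtain ⟨V, v, σ, hσ, h1, h2, h3⟩ := QuotStLib.exists_sections y
    have hk : ∀ t, ∃ k : (tv (σ t ≫ y.φ) : (QS R A B).obj) ⟶ z₀ R A B, True := fun t => by
      obtain ⟨k, -⟩ := exists_pair (K := Scheme.fppfPrecoverage) (aX := CoactBr.action R A B) (σ t ≫ y.φ) 1
        (σ t ≫ y.φ) (pt (IsScalarTower.toAlgHom R B B)) (by rw [x₀_eq, Category.comp_id]; exact QuotStLib.act_one _ _)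
      exact ⟨k, trivial⟩
    choose k _ using hk
    refine ⟨_, fun t => tv (σ t ≫ y.φ), fun t => QuotStLib.homOfSection y (σ t) (σ t ≫ y.φ) rfl (v t) (hσ t),
      fun _ => z₀ R A B, k, fun _ => ⟨P₀ R A B⟩, ⟨fun p => ?_, fun t => ?_, fun t => ?_⟩⟩
    · obtain ⟨q, hq⟩ := h3 p
      exact ⟨p, q, hq⟩
    · exact h1 t
    · exact h2 t
  rel z z' hz hz' := by
    obtain ⟨p, q, hp, hq⟩ := exists_maps₀ (R := R) (A := A) (B := B)
    have h := relAtlas_z₁ hp hq
    have hq' : Flat (bmap (QS R A B) q) := by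
      show Flat q.base.left
      rw [hq.1]; exact flat_incR
    have ha : ∀ {w} (P : Pres w), ∃ a : w ⟶ z₀ R A B, Flat (bmap (QS R A B) a) := fun {w} P => by
      obtain ⟨k, hk⟩ := exists_pair (K := Scheme.fppfPrecoverage) (aX := CoactBr.action R A B) (pt P.β) 1
        (pt P.β) (pt (IsScalarTower.toAlgHom R B B)) (by rw [x₀_eq, Category.comp_id]; exact QuotStLib.act_one _ _)
      refine ⟨P.i.hom ≫ k, ?_⟩
      haveI := StPushLib.isIso_bmap P.i.hom
      haveI : Flat (bmap (QS R A B) k) := by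
        show Flat k.base.left
        rw [hk.1]; exact P.flat
      rw [bmap_comp]; infer_instance
    obtain ⟨P⟩ := hz; obtain ⟨P'⟩ := hz'
    obtain ⟨a, haf⟩ := ha P
    obtain ⟨a', haf'⟩ := ha P'
    exact h.exists_flat (h.symm.flat_snd hq') a haf a' haf'

end TameStLib
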