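import Groth.Agent.TameStLib.Obj
import Mathlib.AlgebraicGeometry.Pullbacks

/-!
# The chart of the fibre of the map to the invariants
-/

set_option autoImplicit false
set_option linter.style.haveILetI false
set_option backward.isDefEq.respectTransparency false
set_option backward.isDefEq.respectTransparency.types false
set_option maxHeartbeats 800000

universe u

open CategoryTheory CategoryTheory.Limits MonoidalCategory CartesianMonoidalCategory AlgebraicGeometry FibCat StMod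
open scoped TensorProduct MonObj

noncomputable section

namespace TameStLib

open CoactBr (sp pt)

section Lift

variable {R : Type u} [CommRing R]

/-- Points of the spectrum of a tensor product. -/
theorem exists_lift_tensor {T₁ T₂ T : Type u} [CommRing T₁] [CommRing T₂] [CommRing T] [Algebra R T₁] [Algebra R T₂]
    [Algebra R T] [Algebra T T₁] [Algebra T T₂] [IsScalarTower R T T₁] [IsScalarTower R T T₂]
    [Algebra R (T₁ ⊗[T] T₂)] (i₁ : T₁ →ₐ[R] T₁ ⊗[T] T₂) (i₂ : T₂ →ₐ[R] T₁ ⊗[T] T₂)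
    (h₁ : ∀ a, i₁ a = a ⊗ₜ[T] 1) (h₂ : ∀ c, i₂ c = 1 ⊗ₜ[T] c)
    {V : Over (Spec (CommRingCat.of R))} (v₁ : V ⟶ sp R T₁) (v₂ : V ⟶ sp R T₂)
    (h : v₁.left ≫ Spec.map (CommRingCat.ofHom (algebraMap T T₁)) =
      v₂.left ≫ Spec.map (CommRingCat.ofHom (algebraMap T T₂))) :
    ∃ f : V ⟶ sp R (T₁ ⊗[T] T₂), f ≫ pt i₁ = v₁ ∧ f ≫ pt i₂ = v₂ ∧
      ∀ f', f' ≫ pt i₁ = v₁ → f' ≫ pt i₂ = v₂ → f' = f := by
  have sq := isPullback_SpecMap_of_isPushout _ _ _ _ (CommRingCat.isPushout_tensorProduct T T₁ T₂)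
  have e₁ : (pt i₁).left = Spec.map (CommRingCat.ofHom Algebra.TensorProduct.includeLeftRingHom) :=
    congrArg Spec.map (CommRingCat.hom_ext (RingHom.ext h₁))
  have e₂ : (pt i₂).left =
      Spec.map (CommRingCat.ofHom (Algebra.TensorProduct.includeRight (R := T) (A := T₁) (B := T₂)).toRingHom) :=
    congrArg Spec.map (CommRingCat.hom_ext (RingHom.ext h₂))
  let f0 := sq.lift v₁.left v₂.left h
  have hw : f0 ≫ (sp R (T₁ ⊗[T] T₂)).hom = V.hom := by
    rw [← Over.w (pt i₁), ← Category.assoc, e₁, sq.lift_fst, Over.w]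
  refine ⟨Over.homMk f0 hw, Over.OverMorphism.ext ?_, Over.OverMorphism.ext ?_, fun f' a b => ?_⟩
  · show f0 ≫ (pt i₁).left = v₁.left
    rw [e₁, sq.lift_fst]
  · show f0 ≫ (pt i₂).left = v₂.left
    rw [e₂, sq.lift_snd]
  · refine Over.OverMorphism.ext (sq.hom_ext ?_ ?_)
    · show f'.left ≫ _ = f0 ≫ _
      rw [sq.lift_fst, ← e₁, ← Over.comp_left, a]
    · show f'.left ≫ _ = f0 ≫ _
      rw [sq.lift_snd, ← e₂, ← Over.comp_left, b]

end Lift

variable (R : Type u) [CommRing R] (A : Type u) [CommRing A] [HopfAlgebra R A]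
variable (B : Type u) [CommRing B] [Algebra R B] [HopfRep.Comod R A B] [GLin.IsCoactAlg R A B]

/-- The affine objects over an object. -/
structure Dat (ρ : QS R A B ⥤ᵇ AlgSt.ofSch (sp R ↥(GLin.invariants R A B)))
    (ob : (AlgSt.ofSch (sp R ↥(GLin.invariants R A B))).obj) (C : Type u) [CommRing C] [Algebra R C]
    [Algebra ↥(GLin.invariants R A B) C] [IsScalarTower R ↥(GLin.invariants R A B) C] where
  hρ : BasedFunctor.comp (AlgSt.quotMap Scheme.fppfPrecoverage (sp R A) (CoactBr.action R A B)) ρ =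
    AlgSt.ofSpMap ((AlgSp.yon (Spec (CommRingCat.of R))).map (pt (GLin.invariants R A B).val))
  i : ob.base ≅ sp R C
  hi : ob.sec.down = i.hom ≫ pt (IsScalarTower.toAlgHom R ↥(GLin.invariants R A B) C)

variable {R A B} {ρ : QS R A B ⥤ᵇ AlgSt.ofSch (sp R ↥(GLin.invariants R A B))}
  {ob : (AlgSt.ofSch (sp R ↥(GLin.invariants R A B))).obj} {C : Type u} [CommRing C] [Algebra R C]
  [Algebra ↥(GLin.invariants R A B) C] [IsScalarTower R ↥(GLin.invariants R A B) C] (Q : Dat R A B ρ ob C)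

variable (R A B C) in
theorem xB_val : (xB R A B C).comp (GLin.invariants R A B).val =
    (xC R A B C).comp (IsScalarTower.toAlgHom R ↥(GLin.invariants R A B) C) :=
  AlgHom.ext fun d => xB_eq_xC R A B C d

/-- The map of the chart to the object. -/
def E₀ : sp R (Ω₀ R A B C) ⟶ ob.base := pt (xC R A B C) ≫ Q.i.inv

theorem E₀_sec : E₀ Q ≫ ob.sec.down = pt (xB R A B C) ≫ pt (GLin.invariants R A B).val := by
  rw [E₀, Q.hi, Category.assoc, Iso.inv_hom_id_assoc, ← CoactBr.pt_comp, ← CoactBr.pt_comp, xB_val]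

/-- The chart. -/
abbrev w₀ : (fibCat ρ ob).obj := mk _ ρ Q.hρ (sp R (Ω₀ R A B C)) (pt (xB R A B C)) (E₀ Q) (E₀_sec Q)

/-- The relations. -/
abbrev w₁ : (fibCat ρ ob).obj :=
  mk _ ρ Q.hρ (sp R (Ω₁ R A B C)) (pt (qHom R A B C) ≫ pt (xB R A B C)) (pt (qHom R A B C) ≫ E₀ Q)
    (by rw [Category.assoc, E₀_sec, Category.assoc])

/-- The pairs of relations. -/
abbrev w₂ : (fibCat ρ ob).obj :=
  mk _ ρ Q.hρ (sp R (Ω₂ R A B C)) (pt (d₂ R A B C) ≫ pt (qHom R A B C) ≫ pt (xB R A B C))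
    (pt (d₂ R A B C) ≫ pt (qHom R A B C) ≫ E₀ Q)
    (by rw [Category.assoc, Category.assoc, E₀_sec, Category.assoc, Category.assoc])

/-- The properties of a morphism of the fibre over a pair. -/
def IsPairFib {T T' : Over (Spec (CommRingCat.of R))} {x : T ⟶ sp R B} {x' : T' ⟶ sp R B} {e : T ⟶ ob.base}
    {e' : T' ⟶ ob.base} {h : e ≫ ob.sec.down = x ≫ pt (GLin.invariants R A B).val}
    {h' : e' ≫ ob.sec.down = x' ≫ pt (GLin.invariants R A B).val}
    (φ : mk _ ρ Q.hρ T x e h ⟶ mk _ ρ Q.hρ T' x' e' h') (f : T ⟶ T') (g : T ⟶ sp R A) : Prop :=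
  IsPair φ.left f g

theorem act_inv_cancel {T : Over (Spec (CommRingCat.of R))} (g : T ⟶ sp R A) (x : T ⟶ sp R B) :
    lift g⁻¹ (lift g x ≫ (CoactBr.action R A B).act) ≫ (CoactBr.action R A B).act = x := by
  rw [← QuotStLib.act_mul, inv_mul_cancel, QuotStLib.act_one]

theorem p_xB : pt (pHom R A B C) ≫ pt (xB R A B C) =
    lift (pt (aHom R A B C)) (pt (qHom R A B C) ≫ pt (xB R A B C)) ≫ (CoactBr.action R A B).act := by
  rw [← CoactBr.pt_comp, ← CoactBr.pt_comp, pt_p_xB]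

theorem p_E₀ : pt (pHom R A B C) ≫ E₀ Q = pt (qHom R A B C) ≫ E₀ Q := by
  rw [E₀, ← Category.assoc, ← Category.assoc, ← CoactBr.pt_comp, ← CoactBr.pt_comp,
    show (pHom R A B C).comp (xC R A B C) = (qHom R A B C).comp (xC R A B C) from AlgHom.ext (pHom_xC R A B C)]

theorem pt_d₀_q : pt (d₀ R A B C) ≫ pt (qHom R A B C) = pt (d₂ R A B C) ≫ pt (pHom R A B C) := by
  rw [← CoactBr.pt_comp, ← CoactBr.pt_comp]
  exact congrArg pt (AlgHom.ext (d₀_q R A B C))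

theorem pt_d₁_q : pt (d₁ R A B C) ≫ pt (qHom R A B C) = pt (d₂ R A B C) ≫ pt (qHom R A B C) := by
  rw [← CoactBr.pt_comp, ← CoactBr.pt_comp]
  exact congrArg pt (AlgHom.ext (d₁_q R A B C))

theorem pt_d₀_p : pt (d₀ R A B C) ≫ pt (pHom R A B C) = pt (d₁ R A B C) ≫ pt (pHom R A B C) := by
  rw [← CoactBr.pt_comp, ← CoactBr.pt_comp]
  exact congrArg pt (AlgHom.ext (d₀_p R A B C))

/-- The morphisms of the chart. -/
theorem exists_maps : ∃ (p q : w₁ Q ⟶ w₀ Q) (f₀ f₁ f₂ : w₂ Q ⟶ w₁ Q),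
    (IsPairFib Q p (pt (pHom R A B C)) (pt (aHom R A B C))⁻¹ ∧ IsPairFib Q q (pt (qHom R A B C)) 1) ∧
    (IsPairFib Q f₀ (pt (d₀ R A B C)) (hPt R A B C)⁻¹ ∧ IsPairFib Q f₁ (pt (d₁ R A B C)) 1 ∧
      IsPairFib Q f₂ (pt (d₂ R A B C)) 1) ∧
    f₀ ≫ q = f₂ ≫ p ∧ f₁ ≫ q = f₂ ≫ q ∧ f₀ ≫ p = f₁ ≫ p := by
  obtain ⟨kp, hkp⟩ := exists_pair (K := Scheme.fppfPrecoverage) (aX := CoactBr.action R A B) (pt (pHom R A B C))
    (pt (aHom R A B C))⁻¹ (pt (qHom R A B C) ≫ pt (xB R A B C)) (pt (xB R A B C)) (by rw [p_xB, act_inv_cancel])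
  obtain ⟨kq, hkq⟩ := exists_pair (K := Scheme.fppfPrecoverage) (aX := CoactBr.action R A B) (pt (qHom R A B C))
    1 (pt (qHom R A B C) ≫ pt (xB R A B C)) (pt (xB R A B C)) (QuotStLib.act_one _ _)
  obtain ⟨k0, hk0⟩ := exists_pair (K := Scheme.fppfPrecoverage) (aX := CoactBr.action R A B) (pt (d₀ R A B C))
    (hPt R A B C)⁻¹ (pt (d₂ R A B C) ≫ pt (qHom R A B C) ≫ pt (xB R A B C)) (pt (qHom R A B C) ≫ pt (xB R A B C)) (by
      rw [← Category.assoc (pt (d₀ R A B C)), pt_d₀_q, Category.assoc, p_xB, comp_lift_assoc, ← CoactBr.pt_comp]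
      exact act_inv_cancel _ _)
  obtain ⟨k1, hk1⟩ := exists_pair (K := Scheme.fppfPrecoverage) (aX := CoactBr.action R A B) (pt (d₁ R A B C))
    1 (pt (d₂ R A B C) ≫ pt (qHom R A B C) ≫ pt (xB R A B C)) (pt (qHom R A B C) ≫ pt (xB R A B C)) (by
      rw [← Category.assoc (pt (d₁ R A B C)), pt_d₁_q, Category.assoc]
      exact QuotStLib.act_one _ _)
  obtain ⟨k2, hk2⟩ := exists_pair (K := Scheme.fppfPrecoverage) (aX := CoactBr.action R A B) (pt (d₂ R A B C))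
    1 (pt (d₂ R A B C) ≫ pt (qHom R A B C) ≫ pt (xB R A B C)) (pt (qHom R A B C) ≫ pt (xB R A B C))
      (QuotStLib.act_one _ _)
  obtain ⟨p, hp⟩ := exists_mkHom (hρ := Q.hρ) (e := pt (qHom R A B C) ≫ E₀ Q) (e' := E₀ Q)
    (by rw [Category.assoc, E₀_sec, Category.assoc]) (E₀_sec Q) kp (by rw [hkp.1, p_E₀])
  obtain ⟨q, hq⟩ := exists_mkHom (hρ := Q.hρ) (e := pt (qHom R A B C) ≫ E₀ Q) (e' := E₀ Q)
    (by rw [Category.assoc, E₀_sec, Category.assoc]) (E₀_sec Q) kq (by rw [hkq.1])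
  have hsec₂ : (pt (d₂ R A B C) ≫ pt (qHom R A B C) ≫ E₀ Q) ≫ ob.sec.down =
      (pt (d₂ R A B C) ≫ pt (qHom R A B C) ≫ pt (xB R A B C)) ≫ pt (GLin.invariants R A B).val := by
    rw [Category.assoc, Category.assoc, E₀_sec, Category.assoc, Category.assoc]
  obtain ⟨f₀, hf₀⟩ := exists_mkHom (hρ := Q.hρ) (e' := pt (qHom R A B C) ≫ E₀ Q) hsec₂
    (by rw [Category.assoc, E₀_sec, Category.assoc]) k0
    (by rw [hk0.1, reassoc_of% (pt_d₀_q (R := R) (A := A) (B := B) (C := C)), p_E₀])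
  obtain ⟨f₁, hf₁⟩ := exists_mkHom (hρ := Q.hρ) (e' := pt (qHom R A B C) ≫ E₀ Q) hsec₂
    (by rw [Category.assoc, E₀_sec, Category.assoc]) k1
    (by rw [hk1.1, reassoc_of% (pt_d₁_q (R := R) (A := A) (B := B) (C := C))])
  obtain ⟨f₂, hf₂⟩ := exists_mkHom (hρ := Q.hρ) (e' := pt (qHom R A B C) ≫ E₀ Q) hsec₂
    (by rw [Category.assoc, E₀_sec, Category.assoc]) k2 (by rw [hk2.1])
  refine ⟨p, q, f₀, f₁, f₂, ⟨(hp.symm ▸ hkp : IsPair p.left _ _), (hq.symm ▸ hkq : IsPair q.left _ _)⟩,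
    ⟨(hf₀.symm ▸ hk0 : IsPair f₀.left _ _), (hf₁.symm ▸ hk1 : IsPair f₁.left _ _),
      (hf₂.symm ▸ hk2 : IsPair f₂.left _ _)⟩, CostructuredArrow.hom_ext _ _ ?_, CostructuredArrow.hom_ext _ _ ?_,
    CostructuredArrow.hom_ext _ _ ?_⟩
  · show f₀.left ≫ q.left = f₂.left ≫ p.left
    rw [hf₀, hq, hf₂, hp]
    refine (hk0.comp hkq).ext (hk2.comp hkp) pt_d₀_q ?_
    rw [MonObj.comp_one, mul_one, one_mul, GrpObj.comp_inv, ← CoactBr.pt_comp]
    rfl
  · show f₁.left ≫ q.left = f₂.left ≫ q.left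
    rw [hf₁, hq, hf₂]
    refine (hk1.comp hkq).ext (hk2.comp hkq) pt_d₁_q ?_
    rw [MonObj.comp_one, MonObj.comp_one]
  · show f₀.left ≫ p.left = f₁.left ≫ p.left
    rw [hf₀, hp, hf₁]
    refine (hk0.comp hkp).ext (hk1.comp hkp) pt_d₀_p ?_
    rw [GrpObj.comp_inv, GrpObj.comp_inv, ← CoactBr.pt_comp, ← CoactBr.pt_comp, pt_d₀_a, pt_d₁_a, one_mul,
      mul_inv_rev]

theorem chart {p q : w₁ Q ⟶ w₀ Q} (hp : IsPairFib Q p (pt (pHom R A B C)) (pt (aHom R A B C))⁻¹)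
    (hq : IsPairFib Q q (pt (qHom R A B C)) 1) [IsFibGrpd (QS R A B).p] :
    GenDescLib.Chart (fibCat ρ ob) (w₀ Q) (w₁ Q) p q := by
  refine ⟨GenDescLib.fibred_fibCat (f := ρ) ob, fun y => ?_, fun y a b => ?_⟩
  · obtain ⟨V, x, e, h, c, h1, h2, h3⟩ := exists_cover (hρ := Q.hρ) y
    have h' : x.left ≫ Spec.map (CommRingCat.ofHom (algebraMap ↥(GLin.invariants R A B) B)) =
        (e ≫ Q.i.hom).left ≫ Spec.map (CommRingCat.ofHom (algebraMap ↥(GLin.invariants R A B) C)) := by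
      have := congrArg CommaMorphism.left (h.symm.trans (by rw [Q.hi, ← Category.assoc]) :
        x ≫ pt (GLin.invariants R A B).val = (e ≫ Q.i.hom) ≫ pt (IsScalarTower.toAlgHom R _ C))
      exact this
    obtain ⟨f, hf₁, hf₂, -⟩ := exists_lift_tensor (R := R) (xB R A B C) (xC R A B C) (fun _ => rfl) (fun _ => rfl)
      x (e ≫ Q.i.hom) h'
    obtain ⟨k, hk⟩ := exists_pair (K := Scheme.fppfPrecoverage) (aX := CoactBr.action R A B) f 1 x
      (pt (xB R A B C)) (by rw [hf₁]; exact QuotStLib.act_one _ _)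
    obtain ⟨φ, -⟩ := exists_mkHom (hρ := Q.hρ) h (E₀_sec Q) k
      (by rw [hk.1, E₀, ← Category.assoc, hf₂, Category.assoc, Iso.hom_inv_id, Category.comp_id])
    exact ⟨_, c, φ, h1, h2, h3⟩
  · obtain ⟨V, x, e, h, c, h1, h2, -⟩ := exists_cover (hρ := Q.hρ) y
    obtain ⟨fa, ga, hga, hpa⟩ := exists_isPair (c ≫ a).left
    obtain ⟨fb, gb, hgb, hpb⟩ := exists_isPair (c ≫ b).left
    have hea : fa ≫ E₀ Q = e := hpa.1 ▸ base_comp_eq (c ≫ a)
    have heb : fb ≫ E₀ Q = e := hpb.1 ▸ base_comp_eq (c ≫ b)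
    obtain ⟨f, hf₁, hf₂, -⟩ := exists_lift_tensor (R := R) (T := R) (aHom R A B C) (qHom R A B C) (fun _ => rfl)
      (fun _ => rfl) (ga⁻¹ * gb) fb ((Over.w (ga⁻¹ * gb)).trans (Over.w fb).symm)
    have hfp : f ≫ pt (pHom R A B C) = fa := by
      have k1 : (f ≫ pt (pHom R A B C)) ≫ pt (xB R A B C) = fa ≫ pt (xB R A B C) := by
        rw [Category.assoc, p_xB, comp_lift_assoc, hf₁, ← Category.assoc, hf₂, QuotStLib.act_mul, hgb, ← hga,
          act_inv_cancel]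
      have k2 : (f ≫ pt (pHom R A B C)) ≫ pt (xC R A B C) = fa ≫ pt (xC R A B C) := by
        rw [← cancel_mono Q.i.inv]
        simp only [Category.assoc]
        show f ≫ pt (pHom R A B C) ≫ E₀ Q = fa ≫ E₀ Q
        rw [p_E₀, ← Category.assoc, hf₂, hea, heb]
      obtain ⟨u, -, -, hu⟩ := exists_lift_tensor (R := R) (xB R A B C) (xC R A B C) (fun _ => rfl) (fun _ => rfl)
        (fa ≫ pt (xB R A B C)) (fa ≫ pt (xC R A B C)) (by
          have e : pt (xB R A B C) ≫ pt (GLin.invariants R A B).val =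
              pt (xC R A B C) ≫ pt (IsScalarTower.toAlgHom R ↥(GLin.invariants R A B) C) := by
            rw [← CoactBr.pt_comp, ← CoactBr.pt_comp, xB_val]
          have e' := congrArg (fun m : sp R (Ω₀ R A B C) ⟶ sp R ↥(GLin.invariants R A B) => fa.left ≫ m.left) e
          show (fa.left ≫ (pt (xB R A B C)).left) ≫ _ = (fa.left ≫ (pt (xC R A B C)).left) ≫ _
          rw [Category.assoc, Category.assoc]
          exact e')
      rw [hu _ k1 k2, hu fa rfl rfl]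
    obtain ⟨k, hk⟩ := exists_pair (K := Scheme.fppfPrecoverage) (aX := CoactBr.action R A B) f gb x
      (pt (qHom R A B C) ≫ pt (xB R A B C)) (by rw [← Category.assoc, hf₂, hgb])
    have hsec : (pt (qHom R A B C) ≫ E₀ Q) ≫ ob.sec.down =
        (pt (qHom R A B C) ≫ pt (xB R A B C)) ≫ pt (GLin.invariants R A B).val := by
      rw [Category.assoc, E₀_sec, Category.assoc]
    obtain ⟨φ, hφ⟩ := exists_mkHom (hρ := Q.hρ) (x' := pt (qHom R A B C) ≫ pt (xB R A B C))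
      (e' := pt (qHom R A B C) ≫ E₀ Q) h hsec k (by rw [hk.1, ← Category.assoc, hf₂, heb])
    refine ⟨_, c, φ, h1, h2, CostructuredArrow.hom_ext _ _ ?_, CostructuredArrow.hom_ext _ _ ?_⟩
    · show φ.left ≫ p.left = (c ≫ a).left
      rw [hφ]
      refine (hk.comp hp).ext hpa hfp ?_
      rw [GrpObj.comp_inv, hf₁, mul_inv_rev, inv_inv, ← mul_assoc, mul_inv_cancel, one_mul]
    · show φ.left ≫ q.left = (c ≫ b).left
      rw [hφ]
      refine (hk.comp hq).ext hpb hf₂ ?_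
      rw [MonObj.comp_one, mul_one]

end TameStLib
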