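import Groth.Agent.TameStLib.Alg

/-!
# The retraction to the invariants
-/

set_option autoImplicit false
set_option linter.style.haveILetI false
set_option backward.isDefEq.respectTransparency false
set_option backward.isDefEq.respectTransparency.types false

universe u

open CategoryTheory MonoidalCategory CartesianMonoidalCategory AlgebraicGeometry
open scoped TensorProduct MonObj

noncomputable section

namespace TameStLib

variable (R : Type u) [CommRing R] (A : Type u) [CommRing A] [HopfAlgebra R A]
variable (B : Type u) [CommRing B] [Algebra R B] [HopfRep.Comod R A B] [GLin.IsCoactAlg R A B]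
variable (C : Type u) [CommRing C] [Algebra R C] [Algebra ↥(GLin.invariants R A B) C]
  [IsScalarTower R ↥(GLin.invariants R A B) C]

/-- The antipode of a commutative Hopf algebra is an involution. -/
theorem antipode_antipode' (a : A) : HopfAlgebra.antipode R (HopfAlgebra.antipode R a) = a := by
  have h : CoactBr.pt (((AlgHom.id R A).comp (HopfAlgebra.antipodeAlgHom R A)).comp
      (HopfAlgebra.antipodeAlgHom R A)) = CoactBr.pt (AlgHom.id R A) := by
    rw [← CoactBr.pt_inv, ← CoactBr.pt_inv, inv_inv]
  exact AlgHom.congr_fun (CoactBr.pt_injective h) a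

variable {R A B}

theorem Φ_pHom_invariant (α : A →ₗ[R] B) (hα : Hoch.IsComodHom A α) (ω : Ω₀ R A B C) :
    pHom R A B C (Φ R A B C α (pHom R A B C ω)) = qHom R A B C (Φ R A B C α (pHom R A B C ω)) := by
  rw [← Φ'_d₀, ← Φ'_d₁ R A B C α hα, d₀_p]

variable (R A B) in
/-- The identification of the chart over the invariants. -/
def rid₀ : Ω₀ R A B ↥(GLin.invariants R A B) →ₐ[R] B :=
  (Algebra.TensorProduct.rid ↥(GLin.invariants R A B) ↥(GLin.invariants R A B) B).toAlgHom.restrictScalars R

theorem rid₀_xB (b : B) : rid₀ R A B (xB R A B _ b) = b := by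
  simp [rid₀, xB]

theorem xB_rid₀ (x : Ω₀ R A B ↥(GLin.invariants R A B)) : xB R A B _ (rid₀ R A B x) = x := by
  apply (Algebra.TensorProduct.rid ↥(GLin.invariants R A B) ↥(GLin.invariants R A B) B).injective
  exact rid₀_xB _

/-- The average of a function. -/
def avg (α : A →ₗ[R] B) (b : B) : B := rid₀ R A B (Φ R A B _ α (p₀ R A B _ b))

theorem avg_add (α : A →ₗ[R] B) (b b' : B) : avg α (b + b') = avg α b + avg α b' := by
  simp only [avg, map_add]

theorem avg_smul (α : A →ₗ[R] B) (d : ↥(GLin.invariants R A B)) (b : B) :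
    avg α ((d : B) * b) = (d : B) * avg α b := by
  rw [avg, map_mul, p₀_invariant, Φ_q_mul, map_mul, rid₀_xB]
  rfl

theorem avg_one (α : A →ₗ[R] B) (h1 : α 1 = 1) : avg α 1 = 1 := by
  rw [avg, map_one, Φ_one R A B _ α h1, map_one]

theorem avg_mem (α : A →ₗ[R] B) (hα : Hoch.IsComodHom A α) (b : B) : avg α b ∈ GLin.invariants R A B := by
  set β := avg α b with hβ
  have h := Φ_pHom_invariant (C := ↥(GLin.invariants R A B)) α hα (xB R A B _ b)
  rw [pHom_xB, show Φ R A B _ α (p₀ R A B _ b) = xB R A B _ β from (xB_rid₀ _).symm, pHom_xB] at h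
  rw [GLin.mem_invariants_iff]
  have h2 := congrArg (Algebra.TensorProduct.lift
    ((Algebra.TensorProduct.includeRight : A →ₐ[R] B ⊗[R] A).comp (HopfAlgebra.antipodeAlgHom R A))
    ((Algebra.TensorProduct.includeLeft : B →ₐ[R] B ⊗[R] A).comp (rid₀ R A B)) fun _ _ => .all _ _) h
  have e : (Algebra.TensorProduct.lift
    ((Algebra.TensorProduct.includeRight : A →ₐ[R] B ⊗[R] A).comp (HopfAlgebra.antipodeAlgHom R A))
    ((Algebra.TensorProduct.includeLeft : B →ₐ[R] B ⊗[R] A).comp (rid₀ R A B)) fun _ _ => .all _ _).comp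
      (p₀ R A B _) = GLin.coactAlgHom R A B := by
    refine AlgHom.ext fun c => ?_
    simp only [p₀, AlgHom.comp_apply]
    generalize GLin.coactAlgHom R A B c = x
    induction x using TensorProduct.induction_on with
    | zero => simp
    | tmul s t => simp [qHom, aHom, rid₀_xB, antipode_antipode']
    | add x y hx hy => simp only [map_add, hx, hy]
  have e' := AlgHom.congr_fun e β
  simp only [AlgHom.comp_apply, GLin.coactAlgHom_apply] at e'
  rw [← e', h2]
  simp [qHom, rid₀_xB]

/-- Averaging on any chart. -/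
theorem Φ_p₀ (α : A →ₗ[R] B) (b : B) : Φ R A B C α (p₀ R A B C b) = xB R A B C (avg α b) := by
  simp only [avg, p₀, AlgHom.comp_apply]
  generalize GLin.coactAlgHom R A B b = x
  induction x using TensorProduct.induction_on with
  | zero => simp
  | tmul s t => simp [qHom, aHom, rid₀_xB]
  | add x y hx hy => simp only [map_add, hx, hy]

/-- Invariant functions on the chart come from the base. -/
theorem exists_of_invariant (α : A →ₗ[R] B) (hα : Hoch.IsComodHom A α) (h1 : α 1 = 1) (ω : Ω₀ R A B C)
    (h : pHom R A B C ω = qHom R A B C ω) : ∃ c, xC R A B C c = ω := by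
  have e : Φ R A B C α (pHom R A B C ω) = ω := by
    rw [h, ← mul_one (qHom R A B C ω), Φ_q_mul, Φ_one R A B C α h1, mul_one]
  rw [← e]
  clear e h
  induction ω using TensorProduct.induction_on with
  | zero => exact ⟨0, by simp⟩
  | tmul b c =>
    have e : b ⊗ₜ[↥(GLin.invariants R A B)] c = xC R A B C c * xB R A B C b := by simp [xB, xC]
    refine ⟨c * algebraMap ↥(GLin.invariants R A B) C ⟨avg α b, avg_mem α hα b⟩, ?_⟩
    rw [e, map_mul (pHom R A B C), pHom_xC, pHom_xB, Φ_q_mul, Φ_p₀, map_mul, ← xB_eq_xC]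
  | add x y hx hy =>
    obtain ⟨c, hc⟩ := hx; obtain ⟨c', hc'⟩ := hy
    exact ⟨c + c', by rw [map_add, map_add, map_add, hc, hc']⟩

/-- Functions on the base inject into the chart. -/
theorem xC_injective (α : A →ₗ[R] B) (hα : Hoch.IsComodHom A α) (h1 : α 1 = 1) :
    Function.Injective (xC R A B C) := by
  let ν : B →ₗ[↥(GLin.invariants R A B)] ↥(GLin.invariants R A B) :=
    { toFun := fun b => ⟨avg α b, avg_mem α hα b⟩
      map_add' := fun b b' => Subtype.ext (avg_add α b b')
      map_smul' := fun d b => Subtype.ext (avg_smul α d b) }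
  let g : Ω₀ R A B C →ₗ[↥(GLin.invariants R A B)] C :=
    (TensorProduct.lid ↥(GLin.invariants R A B) C).toLinearMap ∘ₗ ν.rTensor C
  intro c c' e
  have hg : ∀ c, g (xC R A B C c) = c := fun c => by
    show (⟨avg α 1, avg_mem α hα 1⟩ : ↥(GLin.invariants R A B)) • c = c
    rw [show (⟨avg α 1, avg_mem α hα 1⟩ : ↥(GLin.invariants R A B)) = 1 from Subtype.ext (avg_one α h1), one_smul]
  rw [← hg c, e, hg]

end TameStLib
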