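import Groth.Agent.TameStLib.Tau
import Groth.Agent.TameStLib.Inv

/-!
# The Hopf module of sections over the chart
-/

set_option autoImplicit false
set_option linter.style.haveILetI false
set_option backward.isDefEq.respectTransparency false
set_option backward.isDefEq.respectTransparency.types false
set_option maxHeartbeats 1600000

universe w v u

open CategoryTheory CategoryTheory.Limits MonoidalCategory CartesianMonoidalCategory AlgebraicGeometry FibCat StMod
open scoped TensorProduct MonObj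

noncomputable section

namespace TameStLib

open CoactBr (sp pt)

section Hopf

variable {R : Type u} [CommRing R] {A : Type u} [CommRing A] [HopfAlgebra R A]

/-- The antipode reverses the comultiplication. -/
theorem comul_antipode' (a : A) : CoalgebraStruct.comul (R := R) (HopfAlgebra.antipode R a) =
    TensorProduct.comm R A A (TensorProduct.map (HopfAlgebra.antipode R) (HopfAlgebra.antipode R)
      (CoalgebraStruct.comul (R := R) a)) := by
  have h : pt (((Algebra.TensorProduct.lift (Algebra.TensorProduct.includeLeft : A →ₐ[R] A ⊗[R] A)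
      Algebra.TensorProduct.includeRight fun _ _ => .all _ _).comp (Bialgebra.comulAlgHom R A)).comp
        (HopfAlgebra.antipodeAlgHom R A)) =
      pt ((Algebra.TensorProduct.lift
        ((Algebra.TensorProduct.includeRight : A →ₐ[R] A ⊗[R] A).comp (HopfAlgebra.antipodeAlgHom R A))
        ((Algebra.TensorProduct.includeLeft : A →ₐ[R] A ⊗[R] A).comp (HopfAlgebra.antipodeAlgHom R A))
        fun _ _ => .all _ _).comp (Bialgebra.comulAlgHom R A)) := by
    rw [← CoactBr.pt_inv, ← CoactBr.pt_mul_pt, mul_inv_rev, CoactBr.pt_inv, CoactBr.pt_inv, CoactBr.pt_mul_pt]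
  have e1 : (Algebra.TensorProduct.lift (Algebra.TensorProduct.includeLeft : A →ₐ[R] A ⊗[R] A)
      Algebra.TensorProduct.includeRight fun _ _ => .all _ _) = AlgHom.id R (A ⊗[R] A) :=
    Algebra.TensorProduct.ext' fun x y => by simp
  have h' := AlgHom.congr_fun (CoactBr.pt_injective h) a
  rw [e1, AlgHom.comp_apply, AlgHom.comp_apply, AlgHom.id_apply, AlgHom.comp_apply, Bialgebra.comulAlgHom_apply,
    Bialgebra.comulAlgHom_apply] at h'
  refine h'.trans ?_
  generalize CoalgebraStruct.comul (R := R) a = x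
  induction x using TensorProduct.induction_on with
  | zero => simp
  | tmul s t => simp
  | add x y hx hy => simp only [map_add, hx, hy]

/-- The antipode preserves the counit. -/
theorem counit_antipode' (a : A) :
    CoalgebraStruct.counit (R := R) (HopfAlgebra.antipode R a) = CoalgebraStruct.counit (R := R) a := by
  have h : pt (((Algebra.ofId R R).comp (Bialgebra.counitAlgHom R A)).comp (HopfAlgebra.antipodeAlgHom R A)) =
      pt ((Algebra.ofId R R).comp (Bialgebra.counitAlgHom R A)) := by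
    rw [← CoactBr.pt_inv, ← CoactBr.one_eq_pt, inv_one]
  simpa using AlgHom.congr_fun (CoactBr.pt_injective h) a

/-- The action of functions on the left tensors. -/
def leftAct (B : Type u) [CommRing B] [Algebra R B] (N : Type u) [AddCommGroup N] [Module R N] [Module B N]
    [IsScalarTower R B N] : B ⊗[R] A →ₗ[R] A ⊗[R] N →ₗ[R] A ⊗[R] N :=
  TensorProduct.lift (LinearMap.mk₂ R
    (fun b' a' => TensorProduct.map (LinearMap.mulLeft R (HopfAlgebra.antipode R a')) (Algebra.lsmul R R N b'))
    (fun x y z => by rw [map_add, TensorProduct.map_add_right])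
    (fun r x z => by rw [map_smul, TensorProduct.map_smul_right])
    (fun x y z => by
      rw [map_add, show LinearMap.mulLeft R (HopfAlgebra.antipode R y + HopfAlgebra.antipode R z) =
        LinearMap.mulLeft R (HopfAlgebra.antipode R y) + LinearMap.mulLeft R (HopfAlgebra.antipode R z) from
          LinearMap.ext fun t => add_mul _ _ t, TensorProduct.map_add_left])
    (fun r x z => by
      rw [map_smul, show LinearMap.mulLeft R (r • HopfAlgebra.antipode R z) =
        r • LinearMap.mulLeft R (HopfAlgebra.antipode R z) from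
          LinearMap.ext fun t => smul_mul_assoc r _ t, TensorProduct.map_smul_left]))

theorem leftAct_tmul {B : Type u} [CommRing B] [Algebra R B] {N : Type u} [AddCommGroup N] [Module R N] [Module B N]
    [IsScalarTower R B N] (b : B) (a' a : A) (n : N) :
    leftAct B N (b ⊗ₜ[R] a') (a ⊗ₜ[R] n) = (HopfAlgebra.antipode R a' * a) ⊗ₜ[R] (b • n) := rfl

section

variable {B : Type u} [CommRing B] [Algebra R B] [HopfRep.Comod R A B]
variable {N₀ : Type u} [AddCommGroup N₀] [Module R N₀] [Module B N₀] [IsScalarTower R B N₀]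
variable {N₁ N₂ : Type u} [AddCommGroup N₁] [Module R N₁] [AddCommGroup N₂] [Module R N₂]

/-- A descent datum along the relations is a Hopf module. -/
theorem exists_comod_of_tau (τ : A ⊗[R] N₀ ≃ₗ[R] N₁) (τ' : A ⊗[R] N₁ →ₗ[R] N₂) (hτ' : Function.Injective τ')
    (pl : N₀ →ₗ[R] N₁) (F0 F1 : N₁ →+ N₂) (e : N₁ →+ N₀)
    (hF0 : ∀ a n, F0 (τ (a ⊗ₜ[R] n)) = τ' (a ⊗ₜ[R] pl n))
    (hF1 : ∀ a n, F1 (τ (a ⊗ₜ[R] n)) = τ' (τ.toLinearMap.lTensor A
      (TensorProduct.assoc R A A N₀ (CoalgebraStruct.comul (R := R) a ⊗ₜ[R] n))))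
    (hFp : ∀ n, F0 (pl n) = F1 (pl n))
    (he : ∀ a n, e (τ (a ⊗ₜ[R] n)) = CoalgebraStruct.counit (R := R) a • n)
    (hep : ∀ n, e (pl n) = n)
    (hb : ∀ (b : B) (n : N₀),
      pl (b • n) = τ (leftAct B N₀ (HopfRep.Comod.coact (k := R) (A := A) b) (τ.symm (pl n)))) :
    ∃ I : HopfRep.Comod R A N₀,
      (∀ n, τ (TensorProduct.map (HopfAlgebra.antipode R) LinearMap.id
        (TensorProduct.comm R N₀ A (I.coact n))) = pl n) ∧
      @TameAct.IsHopfMod R _ A _ _ B _ _ N₀ _ _ _ _ _ I := by
  let lam : N₀ →ₗ[R] A ⊗[R] N₀ := τ.symm.toLinearMap ∘ₗ pl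
  have hlam : ∀ n, τ (lam n) = pl n := fun n => τ.apply_symm_apply _
  -- coassociativity on the left
  have hassoc : ∀ n, lam.lTensor A (lam n) =
      TensorProduct.assoc R A A N₀ ((CoalgebraStruct.comul (R := R)).rTensor N₀ (lam n)) := fun n => by
    refine (hτ'.comp (LinearEquiv.lTensor A τ).injective) ?_
    have k0 : ∀ z, τ' (τ.toLinearMap.lTensor A (lam.lTensor A z)) = F0 (τ z) := fun z => by
      induction z using TensorProduct.induction_on with
      | zero => simp
      | tmul a m =>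
        rw [LinearMap.lTensor_tmul, LinearMap.lTensor_tmul, hF0]
        exact congrArg (fun y => τ' (a ⊗ₜ[R] y)) (hlam m)
      | add z z' hz hz' => simp only [map_add, hz, hz']
    have k1 : ∀ z, τ' (τ.toLinearMap.lTensor A
        (TensorProduct.assoc R A A N₀ ((CoalgebraStruct.comul (R := R)).rTensor N₀ z))) = F1 (τ z) := fun z => by
      induction z using TensorProduct.induction_on with
      | zero => simp
      | tmul a m => rw [LinearMap.rTensor_tmul, hF1]
      | add z z' hz hz' => simp only [map_add, hz, hz']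
    show τ' (τ.toLinearMap.lTensor A _) = τ' (τ.toLinearMap.lTensor A _)
    rw [k0, k1, hlam, hFp]
  -- counit
  have hcounit : ∀ n, TensorProduct.lid R N₀ ((CoalgebraStruct.counit (R := R)).rTensor N₀ (lam n)) = n :=
    fun n => by
    have k : ∀ z, TensorProduct.lid R N₀ ((CoalgebraStruct.counit (R := R)).rTensor N₀ z) = e (τ z) := fun z => by
      induction z using TensorProduct.induction_on with
      | zero => simp
      | tmul a m => rw [LinearMap.rTensor_tmul, TensorProduct.lid_tmul, he]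
      | add z z' hz hz' => simp only [map_add, hz, hz']
    rw [k, hlam, hep]
  -- the right coaction
  let co : N₀ →ₗ[R] N₀ ⊗[R] A :=
    (TensorProduct.comm R A N₀).toLinearMap ∘ₗ TensorProduct.map (HopfAlgebra.antipode R) LinearMap.id ∘ₗ lam
  have hback : ∀ n, TensorProduct.map (HopfAlgebra.antipode R) LinearMap.id
      (TensorProduct.comm R N₀ A (co n)) = lam n := fun n => by
    show TensorProduct.map (HopfAlgebra.antipode R) LinearMap.id (TensorProduct.comm R N₀ A
      (TensorProduct.comm R A N₀ (TensorProduct.map (HopfAlgebra.antipode R) LinearMap.id (lam n)))) = _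
    generalize lam n = z
    induction z using TensorProduct.induction_on with
    | zero => simp
    | tmul a m => simp [antipode_antipode']
    | add z z' hz hz' => simp only [map_add, hz, hz']
  let Θ : A ⊗[R] (A ⊗[R] N₀) →ₗ[R] N₀ ⊗[R] (A ⊗[R] A) :=
    (TensorProduct.assoc R N₀ A A).toLinearMap ∘ₗ (TensorProduct.comm R A (N₀ ⊗[R] A)).toLinearMap ∘ₗ
      TensorProduct.map (HopfAlgebra.antipode R)
        ((TensorProduct.comm R A N₀).toLinearMap ∘ₗ TensorProduct.map (HopfAlgebra.antipode R) LinearMap.id)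
  have l : ∀ z, TensorProduct.assoc R N₀ A A (co.rTensor A (TensorProduct.comm R A N₀
      (TensorProduct.map (HopfAlgebra.antipode R) LinearMap.id z))) = Θ (lam.lTensor A z) := fun z => by
    induction z using TensorProduct.induction_on with
    | zero => simp
    | tmul a m => rfl
    | add z z' hz hz' => simp only [map_add, hz, hz']
  have r : ∀ z, (CoalgebraStruct.comul (R := R)).lTensor N₀ (TensorProduct.comm R A N₀
      (TensorProduct.map (HopfAlgebra.antipode R) LinearMap.id z)) =
        Θ (TensorProduct.assoc R A A N₀ ((CoalgebraStruct.comul (R := R)).rTensor N₀ z)) := fun z => by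
    induction z using TensorProduct.induction_on with
    | zero => simp
    | tmul a m =>
      rw [TensorProduct.map_tmul, TensorProduct.comm_tmul, LinearMap.lTensor_tmul, comul_antipode',
        LinearMap.rTensor_tmul]
      generalize CoalgebraStruct.comul (R := R) a = c
      induction c using TensorProduct.induction_on with
      | zero => simp
      | tmul s t => simp [Θ]
      | add c c' hc hc' => simp only [TensorProduct.add_tmul, TensorProduct.tmul_add, map_add, hc, hc']
    | add z z' hz hz' => simp only [map_add, hz, hz']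
  let I : HopfRep.Comod R A N₀ :=
    { coact := co
      coassoc := LinearMap.ext fun n => (l (lam n)).trans ((congrArg Θ (hassoc n)).trans (r (lam n)).symm)
      counit_comp := LinearMap.ext fun n => by
        show (CoalgebraStruct.counit (R := R)).lTensor N₀ (co n) = n ⊗ₜ[R] (1 : R)
        conv_rhs => rw [← hcounit n]
        show (CoalgebraStruct.counit (R := R)).lTensor N₀ (TensorProduct.comm R A N₀
          (TensorProduct.map (HopfAlgebra.antipode R) LinearMap.id (lam n))) = _
        generalize lam n = z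
        induction z using TensorProduct.induction_on with
        | zero => simp
        | tmul a m =>
          rw [TensorProduct.map_tmul, TensorProduct.comm_tmul, LinearMap.lTensor_tmul, counit_antipode',
            LinearMap.rTensor_tmul, TensorProduct.lid_tmul, TensorProduct.smul_tmul, smul_eq_mul, mul_one]
          rfl
        | add z z' hz hz' => simp only [map_add, TensorProduct.add_tmul, hz, hz'] }
  refine ⟨I, fun n => (congrArg τ (hback n)).trans (hlam n), ?_⟩
  constructor
  intro b n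
  show co (b • n) = TameAct.hmSMul R A B N₀ (HopfRep.Comod.coact (k := R) (A := A) b) (co n)
  have hl : lam (b • n) = leftAct B N₀ (HopfRep.Comod.coact (k := R) (A := A) b) (lam n) :=
    τ.injective ((hlam _).trans (hb b n))
  show TensorProduct.comm R A N₀ (TensorProduct.map (HopfAlgebra.antipode R) LinearMap.id (lam (b • n))) =
    TameAct.hmSMul R A B N₀ _
      (TensorProduct.comm R A N₀ (TensorProduct.map (HopfAlgebra.antipode R) LinearMap.id (lam n)))
  rw [hl]
  generalize lam n = z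
  generalize HopfRep.Comod.coact (k := R) (A := A) b = c
  induction c using TensorProduct.induction_on with
  | zero => simp
  | tmul b' a' =>
    induction z using TensorProduct.induction_on with
    | zero => simp
    | tmul a m =>
      rw [leftAct_tmul, TensorProduct.map_tmul, TensorProduct.map_tmul, TensorProduct.comm_tmul,
        TensorProduct.comm_tmul, TameAct.hmSMul_tmul, ← HopfAlgebra.antipodeAlgHom_apply, map_mul,
        HopfAlgebra.antipodeAlgHom_apply, HopfAlgebra.antipodeAlgHom_apply, antipode_antipode']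
      rfl
    | add z z' hz hz' => simp only [map_add, hz, hz']
  | add c c' hc hc' => simp only [map_add, LinearMap.add_apply, hc, hc']

end

end Hopf

section Gen

variable {R : Type u} [CommRing R] {A : Type u} [CommRing A] [Algebra R A]
variable {W : BasedCategory.{v, w} (Over (Spec (CommRingCat.of R)))}

/-- Sections over the base change along the Hopf algebra are tensors. -/
theorem exists_tau (M : Mod W) (hMc : M.IsCartesian) (hMq : M.IsLocQCoh) {x' x : W.obj} (k : x' ⟶ x)
    {Ω : Type u} [CommRing Ω] [Algebra R Ω] [IsAffine (sch W x)] [IsAffine (sch W x')]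
    (jx : sch W x ≅ Spec (CommRingCat.of Ω)) (jx' : sch W x' ≅ Spec (CommRingCat.of (A ⊗[R] Ω)))
    (hk : bmap W k = jx'.hom ≫ Spec.map (CommRingCat.ofHom
      (Algebra.TensorProduct.includeRight (R := R) (A := A) (B := Ω)).toRingHom) ≫ jx.inv)
    [Module R Γ(M.obj x, ⊤)] [Module R Γ(M.obj x', ⊤)]
    (hR : ∀ (r : R) (m : Γ(M.obj x, ⊤)), r • m = jx.hom.appTop (toG Ω (algebraMap R Ω r)) • m)
    (hR' : ∀ (r : R) (m : Γ(M.obj x', ⊤)),
      r • m = jx'.hom.appTop (toG (A ⊗[R] Ω) (algebraMap R (A ⊗[R] Ω) r)) • m) :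
    ∃ τ : A ⊗[R] Γ(M.obj x, ⊤) ≃ₗ[R] Γ(M.obj x', ⊤),
      ∀ a m, τ (a ⊗ₜ[R] m) = jx'.hom.appTop (toG (A ⊗[R] Ω) (a ⊗ₜ[R] 1)) • M.mapTop k m := by
  have hs : ∀ (r : R) (m : Γ(M.obj x, ⊤)), M.mapTop k (r • m) = r • M.mapTop k m := fun r m => by
    rw [hR, hR', Mod.mapTop_smul]
    refine congrArg (· • M.mapTop k m) ?_
    have e : bmap W k ≫ jx.hom = jx'.hom ≫ Spec.map (CommRingCat.ofHom
        (Algebra.TensorProduct.includeRight (R := R) (A := A) (B := Ω)).toRingHom) := by
      rw [hk]; simp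
    refine (congr(Scheme.Hom.appTop $e (toG Ω (algebraMap R Ω r)))).trans ?_
    show jx'.hom.appTop ((Spec.map (CommRingCat.ofHom (Algebra.TensorProduct.includeRight (R := R) (A := A)
      (B := Ω)).toRingHom)).appTop (toG Ω (algebraMap R Ω r))) = _
    rw [appTop_map, ofG_toG]
    exact congrArg (fun y => jx'.hom.appTop (toG (A ⊗[R] Ω) y))
      ((Algebra.TensorProduct.includeRight (R := R) (A := A) (B := Ω)).commutes r)
  let T : A → Γ(M.obj x, ⊤) → Γ(M.obj x', ⊤) :=
    fun a m => jx'.hom.appTop (toG (A ⊗[R] Ω) (a ⊗ₜ[R] 1)) • M.mapTop k m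
  let τ : A ⊗[R] Γ(M.obj x, ⊤) →ₗ[R] Γ(M.obj x', ⊤) := TensorProduct.lift (LinearMap.mk₂ R T
    (fun a a' m => by simp only [T]; rw [TensorProduct.add_tmul, map_add, map_add, add_smul])
    (fun r a m => by
      simp only [T]
      rw [hR', ← mul_smul, ← map_mul, ← map_mul, ← TensorProduct.smul_tmul', Algebra.smul_def])
    (fun a m m' => by simp only [T]; rw [M.mapTop_add, smul_add])
    (fun r a m => by
      simp only [T]
      rw [hs, hR', hR', ← mul_smul, ← mul_smul, mul_comm]))
  exact ⟨LinearEquiv.ofBijective τ (bijective_tau M hMc hMq k jx jx' hk hR τ.toAddMonoidHom fun _ _ => rfl),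
    fun _ _ => rfl⟩

end Gen

variable {R : Type u} [CommRing R] {A : Type u} [CommRing A] [HopfAlgebra R A]
variable {B : Type u} [CommRing B] [Algebra R B] [HopfRep.Comod R A B] [GLin.IsCoactAlg R A B]
variable {ρ : QS R A B ⥤ᵇ AlgSt.ofSch (sp R ↥(GLin.invariants R A B))}
  {ob : (AlgSt.ofSch (sp R ↥(GLin.invariants R A B))).obj} {C : Type u} [CommRing C] [Algebra R C]
  [Algebra ↥(GLin.invariants R A B) C] [IsScalarTower R ↥(GLin.invariants R A B) C] (Q : Dat R A B ρ ob C)

/-- The sections over the chart. -/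
abbrev S₀ (F : QCoh (QS R A B)) : Type u := Γ(F.obj.obj (w₀ Q).left, ⊤)

/-- The action of `R`. -/
@[reducible] def modR (F : QCoh (QS R A B)) : Module R (S₀ Q F) :=
  Module.compHom _ ((toG (Ω₀ R A B C)).comp (algebraMap R (Ω₀ R A B C)))

/-- The action of `B`. -/
@[reducible] def modB (F : QCoh (QS R A B)) : Module B (S₀ Q F) :=
  Module.compHom _ ((toG (Ω₀ R A B C)).comp (xB R A B C).toRingHom)

theorem tower (F : QCoh (QS R A B)) : @IsScalarTower R B (S₀ Q F) _ (modB Q F).toSMul (modR Q F).toSMul := by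
  letI := modR Q F; letI := modB Q F
  exact IsScalarTower.of_algebraMap_smul fun r m => by
    show toG _ (xB R A B C (algebraMap R B r)) • m = toG _ (algebraMap R (Ω₀ R A B C) r) • m
    rw [AlgHom.commutes]

theorem appTop_refl {X : Scheme.{u}} (a : Γ(X, ⊤)) : (Iso.refl X).hom.appTop a = a := rfl

section

variable (F : QCoh (QS R A B))

theorem s₂ {k : (w₂ Q).left ⟶ (w₁ Q).left}
    (hk : bmap (QS R A B) k = Spec.map (CommRingCat.ofHom (d₂ R A B C).toRingHom)) (x : Ω₁ R A B C)
    (m : Γ(F.obj.obj (w₁ Q).left, ⊤)) :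
    F.obj.mapTop k (toG _ x • m) = toG _ (d₂ R A B C x) • F.obj.mapTop k m := by
  rw [Mod.mapTop_smul, hk]; erw [appTop_map]; rw [ofG_toG]; rfl

theorem leftAct_tau {k : (w₁ Q).left ⟶ (w₀ Q).left}
    (hk : bmap (QS R A B) k = Spec.map (CommRingCat.ofHom (qHom R A B C).toRingHom))
    [Module R Γ(F.obj.obj (w₁ Q).left, ⊤)] :
    letI := modR Q F; letI := modB Q F; haveI := tower Q F
    ∀ (τ : A ⊗[R] S₀ Q F ≃ₗ[R] Γ(F.obj.obj (w₁ Q).left, ⊤))
      (_ : ∀ a m, τ (a ⊗ₜ[R] m) = toG (Ω₁ R A B C) (a ⊗ₜ[R] 1) • F.obj.mapTop k m) (c : B ⊗[R] A)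
      (z : A ⊗[R] S₀ Q F),
      toG (Ω₁ R A B C) (Algebra.TensorProduct.lift ((qHom R A B C).comp (xB R A B C))
        ((aHom R A B C).comp (HopfAlgebra.antipodeAlgHom R A)) (fun _ _ => .all _ _) c) • τ z =
        τ (leftAct B (S₀ Q F) c z) := by
  letI := modR Q F; letI := modB Q F; haveI := tower Q F
  intro τ hτ c z
  induction c using TensorProduct.induction_on with
  | zero => simp
  | add c c' hc hc' => simp only [map_add, add_smul, LinearMap.add_apply, hc, hc']
  | tmul b' a' =>
    induction z using TensorProduct.induction_on with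
    | zero => simp
    | add z z' hz hz' => simp only [map_add, smul_add, hz, hz']
    | tmul a n =>
      rw [leftAct_tmul, hτ, hτ]
      have hs : F.obj.mapTop k (b' • n) = toG _ (qHom R A B C (xB R A B C b')) • F.obj.mapTop k n := by
        show F.obj.mapTop k (toG _ (xB R A B C b') • n) = _
        rw [Mod.mapTop_smul, hk]; erw [appTop_map]; rw [ofG_toG]; rfl
      rw [hs, ← mul_smul, ← mul_smul, ← map_mul, ← map_mul]
      refine congrArg (fun x : Ω₁ R A B C => toG _ x • F.obj.mapTop k n) ?_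
      simp [qHom, aHom]

/-- The unit section of the relations. -/
theorem exists_section [IsFibGrpd (QS R A B).p] {p q : w₁ Q ⟶ w₀ Q}
    (hp : IsPairFib Q p (pt (pHom R A B C)) (pt (aHom R A B C))⁻¹) (hq : IsPairFib Q q (pt (qHom R A B C)) 1) :
    ∃ e : (w₀ Q).left ⟶ (w₁ Q).left,
      bmap (QS R A B) e = Spec.map (CommRingCat.ofHom (Algebra.TensorProduct.lift
        ((Algebra.ofId R (Ω₀ R A B C)).comp (Bialgebra.counitAlgHom R A)) (AlgHom.id R _) fun _ _ => .all _ _ :
          Ω₁ R A B C →ₐ[R] Ω₀ R A B C).toRingHom) ∧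
      e ≫ p.left = 𝟙 _ ∧ e ≫ q.left = 𝟙 _ := by
  let εH : Ω₁ R A B C →ₐ[R] Ω₀ R A B C := Algebra.TensorProduct.lift
    ((Algebra.ofId R (Ω₀ R A B C)).comp (Bialgebra.counitAlgHom R A)) (AlgHom.id R _) fun _ _ => .all _ _
  have hεq : εH.comp (qHom R A B C) = AlgHom.id R _ := AlgHom.ext fun x => by simp [εH, qHom]
  have hεa : pt (εH.comp (aHom R A B C)) = 1 := by
    rw [CoactBr.one_eq_pt]
    exact congrArg pt (AlgHom.ext fun x => by simp [εH, aHom])
  have hεp : εH.comp (pHom R A B C) = AlgHom.id R _ := by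
    have hB : (εH.comp (pHom R A B C)).comp (xB R A B C) = xB R A B C := by
      refine CoactBr.pt_injective ?_
      rw [AlgHom.comp_assoc, CoactBr.pt_comp, ← pt_p_xB, comp_lift_assoc, ← CoactBr.pt_comp, ← CoactBr.pt_comp,
        hεa, QuotStLib.act_one, ← AlgHom.comp_assoc, hεq]
      rfl
    refine AlgHom.ext fun ω => ?_
    induction ω using TensorProduct.induction_on with
    | zero => simp
    | add x y hx hy => simp only [map_add, hx, hy]
    | tmul b c =>
      have e : b ⊗ₜ[↥(GLin.invariants R A B)] c = xB R A B C b * xC R A B C c := by simp [xB, xC]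
      rw [e, map_mul, AlgHom.comp_apply, AlgHom.comp_apply, pHom_xC]
      exact congrArg₂ (· * ·) (AlgHom.congr_fun hB b) (AlgHom.congr_fun hεq _)
  obtain ⟨e, he⟩ := exists_pair (K := Scheme.fppfPrecoverage) (aX := CoactBr.action R A B) (pt εH) 1
    (pt (xB R A B C)) (pt (qHom R A B C) ≫ pt (xB R A B C)) (by
      rw [← Category.assoc, ← CoactBr.pt_comp, hεq, CoactBr.pt_id, Category.id_comp, QuotStLib.act_one])
  refine ⟨e, bmap_of_pair he, ?_, ?_⟩
  · refine (he.comp hp).ext (isPair_id _) (by rw [← CoactBr.pt_comp, hεp, CoactBr.pt_id]) ?_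
    rw [GrpObj.comp_inv, ← CoactBr.pt_comp, hεa, inv_one, mul_one]
  · refine (he.comp hq).ext (isPair_id _) (by rw [← CoactBr.pt_comp, hεq, CoactBr.pt_id]) ?_
    rw [MonObj.comp_one, mul_one]

end

/-- The sections over the chart form a Hopf module. -/
theorem exists_coact [IsFibGrpd (QS R A B).p] {p q : w₁ Q ⟶ w₀ Q} {f₀ f₁ f₂ : w₂ Q ⟶ w₁ Q}
    (hp : IsPairFib Q p (pt (pHom R A B C)) (pt (aHom R A B C))⁻¹) (hq : IsPairFib Q q (pt (qHom R A B C)) 1)
    (h₀ : IsPairFib Q f₀ (pt (d₀ R A B C)) (hPt R A B C)⁻¹) (h₁ : IsPairFib Q f₁ (pt (d₁ R A B C)) 1)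
    (h₂ : IsPairFib Q f₂ (pt (d₂ R A B C)) 1)
    (e0 : f₀ ≫ q = f₂ ≫ p) (e1 : f₁ ≫ q = f₂ ≫ q) (e2 : f₀ ≫ p = f₁ ≫ p) (F : QCoh (QS R A B)) :
    letI := modR Q F; letI := modB Q F; haveI := tower Q F
    ∃ (τ : A ⊗[R] S₀ Q F →+ Γ(F.obj.obj (w₁ Q).left, ⊤)) (I : HopfRep.Comod R A (S₀ Q F)),
      Function.Injective τ ∧
      (∀ a m, τ (a ⊗ₜ[R] m) = toG (Ω₁ R A B C) (a ⊗ₜ[R] 1) • F.obj.mapTop q.left m) ∧
      (∀ m, τ (TensorProduct.map (HopfAlgebra.antipode R) LinearMap.id
        (TensorProduct.comm R (S₀ Q F) A (I.coact m))) = F.obj.mapTop p.left m) ∧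
      @TameAct.IsHopfMod R _ A _ _ B _ _ (S₀ Q F) _ _ _ _ _ I := by
  letI := modR Q F; letI := modB Q F; haveI := tower Q F
  haveI : IsAffine (sch (QS R A B) (w₀ Q).left) := inferInstanceAs (IsAffine (Spec (CommRingCat.of (Ω₀ R A B C))))
  haveI : IsAffine (sch (QS R A B) (w₁ Q).left) := inferInstanceAs (IsAffine (Spec (CommRingCat.of (Ω₁ R A B C))))
  haveI : IsAffine (sch (QS R A B) (w₂ Q).left) := inferInstanceAs (IsAffine (Spec (CommRingCat.of (Ω₂ R A B C))))
  letI : Module R Γ(F.obj.obj (w₁ Q).left, ⊤) :=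
    Module.compHom _ ((toG (Ω₁ R A B C)).comp (algebraMap R (Ω₁ R A B C)))
  letI : Module R Γ(F.obj.obj (w₂ Q).left, ⊤) :=
    Module.compHom _ ((toG (Ω₂ R A B C)).comp (algebraMap R (Ω₂ R A B C)))
  have bp : bmap (QS R A B) p.left = Spec.map (CommRingCat.ofHom (pHom R A B C).toRingHom) := bmap_of_pair hp
  have bq : bmap (QS R A B) q.left = Spec.map (CommRingCat.ofHom (qHom R A B C).toRingHom) := bmap_of_pair hq
  have b₀ : bmap (QS R A B) f₀.left = Spec.map (CommRingCat.ofHom (d₀ R A B C).toRingHom) := bmap_of_pair h₀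
  have b₁ : bmap (QS R A B) f₁.left = Spec.map (CommRingCat.ofHom (d₁ R A B C).toRingHom) := bmap_of_pair h₁
  have b₂ : bmap (QS R A B) f₂.left = Spec.map (CommRingCat.ofHom (d₂ R A B C).toRingHom) := bmap_of_pair h₂
  obtain ⟨τ, hτc⟩ := exists_tau (A := A) (Ω := Ω₀ R A B C) F.obj F.property.1 F.property.2 q.left
    (Iso.refl _) (Iso.refl _) bq (fun _ _ => rfl) (fun _ _ => rfl)
  obtain ⟨τ', hτc'⟩ := exists_tau (A := A) (Ω := Ω₁ R A B C) F.obj F.property.1 F.property.2 f₂.left
    (Iso.refl _) (Iso.refl _) b₂ (fun _ _ => rfl) (fun _ _ => rfl)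
  have hτ : ∀ (a : A) (m : S₀ Q F),
      τ (a ⊗ₜ[R] m) = toG (Ω₁ R A B C) (a ⊗ₜ[R] 1) • F.obj.mapTop q.left m := hτc
  have hτ' : ∀ (a : A) (m : Γ(F.obj.obj (w₁ Q).left, ⊤)),
      τ' (a ⊗ₜ[R] m) = toG (Ω₂ R A B C) (a ⊗ₜ[R] 1) • F.obj.mapTop f₂.left m := hτc'
  have sp' : ∀ (x : Ω₀ R A B C) (m : S₀ Q F),
      F.obj.mapTop p.left (toG _ x • m) = toG _ (pHom R A B C x) • F.obj.mapTop p.left m := fun x m => by
    rw [Mod.mapTop_smul, bp]; erw [appTop_map]; rw [ofG_toG]; rfl
  have s₀' : ∀ (x : Ω₁ R A B C) (m : Γ(F.obj.obj (w₁ Q).left, ⊤)),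
      F.obj.mapTop f₀.left (toG _ x • m) = toG _ (d₀ R A B C x) • F.obj.mapTop f₀.left m := fun x m => by
    rw [Mod.mapTop_smul, b₀]; erw [appTop_map]; rw [ofG_toG]; rfl
  have s₁' : ∀ (x : Ω₁ R A B C) (m : Γ(F.obj.obj (w₁ Q).left, ⊤)),
      F.obj.mapTop f₁.left (toG _ x • m) = toG _ (d₁ R A B C x) • F.obj.mapTop f₁.left m := fun x m => by
    rw [Mod.mapTop_smul, b₁]; erw [appTop_map]; rw [ofG_toG]; rfl
  let pl : S₀ Q F →ₗ[R] Γ(F.obj.obj (w₁ Q).left, ⊤) :=
    { toFun := F.obj.mapTop p.left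
      map_add' := F.obj.mapTop_add _
      map_smul' := fun r m => (sp' (algebraMap R (Ω₀ R A B C) r) m).trans (congrArg
        (fun y : Ω₁ R A B C => toG _ y • F.obj.mapTop p.left m) ((pHom R A B C).commutes r)) }
  let εH : Ω₁ R A B C →ₐ[R] Ω₀ R A B C := Algebra.TensorProduct.lift
    ((Algebra.ofId R (Ω₀ R A B C)).comp (Bialgebra.counitAlgHom R A)) (AlgHom.id R _) fun _ _ => .all _ _
  obtain ⟨e, heb, hep, heq'⟩ := exists_section Q hp hq
  have se : ∀ (x : Ω₁ R A B C) (m : Γ(F.obj.obj (w₁ Q).left, ⊤)),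
      F.obj.mapTop e (toG _ x • m) = toG _ (εH x) • F.obj.mapTop e m := fun x m => by
    rw [Mod.mapTop_smul, heb]; erw [appTop_map]; rw [ofG_toG]; rfl
  have hF1 : ∀ a n, F.obj.mapTop f₁.left (τ (a ⊗ₜ[R] n)) = τ' (τ.toLinearMap.lTensor A
      (TensorProduct.assoc R A A (S₀ Q F) (CoalgebraStruct.comul (R := R) a ⊗ₜ[R] n))) := fun a n => by
    rw [hτ, s₁', ← Mod.mapTop_comp, show f₁.left ≫ q.left = f₂.left ≫ q.left from congrArg CommaMorphism.left e1]
    show toG _ ((Algebra.TensorProduct.assoc R R R A A (Ω₀ R A B C))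
      (CoalgebraStruct.comul (R := R) a ⊗ₜ[R] 1)) • _ = _
    generalize CoalgebraStruct.comul (R := R) a = c
    induction c using TensorProduct.induction_on with
    | zero => simp
    | add c c' hc hc' => simp only [TensorProduct.add_tmul, map_add, add_smul, hc, hc']
    | tmul s t =>
      rw [TensorProduct.assoc_tmul, LinearMap.lTensor_tmul, LinearEquiv.coe_coe, hτ, hτ', s₂ Q F b₂, ← mul_smul,
        ← map_mul, Mod.mapTop_comp]
      exact congrArg (fun y : Ω₂ R A B C => toG _ y • _) (by simp [d₂])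
  obtain ⟨I, hI, hH⟩ := exists_comod_of_tau (B := B) τ τ'.toLinearMap τ'.injective pl
    (AddMonoidHom.mk' (F.obj.mapTop f₀.left) (F.obj.mapTop_add _))
    (AddMonoidHom.mk' (F.obj.mapTop f₁.left) (F.obj.mapTop_add _))
    (AddMonoidHom.mk' (F.obj.mapTop e) (F.obj.mapTop_add _))
    (fun a n => by
      show F.obj.mapTop f₀.left (τ (a ⊗ₜ[R] n)) = τ' (a ⊗ₜ[R] F.obj.mapTop p.left n)
      rw [hτ, hτ', s₀', ← Mod.mapTop_comp, ← Mod.mapTop_comp,
        show f₀.left ≫ q.left = f₂.left ≫ p.left from congrArg CommaMorphism.left e0]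
      exact congrArg (fun y : Ω₂ R A B C => toG _ y • _) (by simp [d₀]))
    hF1
    (fun n => by
      show F.obj.mapTop f₀.left (F.obj.mapTop p.left n) = F.obj.mapTop f₁.left (F.obj.mapTop p.left n)
      rw [← Mod.mapTop_comp, ← Mod.mapTop_comp]
      exact congrArg (fun k => F.obj.mapTop k n) (congrArg CommaMorphism.left e2))
    (fun a n => by
      show F.obj.mapTop e (τ (a ⊗ₜ[R] n)) = _
      rw [hτ, se, ← Mod.mapTop_comp, heq', Mod.mapTop_id]
      refine congrArg (fun y : Ω₀ R A B C => toG _ y • n) ?_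
      simp [εH])
    (fun n => by
      show F.obj.mapTop e (F.obj.mapTop p.left n) = n
      rw [← Mod.mapTop_comp, hep, Mod.mapTop_id])
    (fun b n => by
      have hz : τ (τ.symm (pl n)) = pl n := τ.apply_symm_apply _
      have h1 : pl (b • n) = toG (Ω₁ R A B C) (Algebra.TensorProduct.lift ((qHom R A B C).comp (xB R A B C))
          ((aHom R A B C).comp (HopfAlgebra.antipodeAlgHom R A)) (fun _ _ => .all _ _)
          (HopfRep.Comod.coact (k := R) (A := A) b)) • pl n := by
        refine (sp' (xB R A B C b) n).trans ?_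
        rw [pHom_xB]
        rfl
      exact h1.trans ((congrArg (fun y => toG (Ω₁ R A B C) _ • y) hz.symm).trans
        (leftAct_tau Q F bq τ hτ _ _)))
  exact ⟨τ.toLinearMap.toAddMonoidHom, I, τ.injective, hτ, hI, hH⟩

end TameStLib
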