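import Groth.Agent.GenDescLib.Sections
import Groth.Agent.QCohLib.Gen

/-!
# Integrals of sections along an affine base change
-/

set_option autoImplicit false
set_option linter.style.haveILetI false
set_option backward.isDefEq.respectTransparency false
set_option backward.isDefEq.respectTransparency.types false

universe w v u

open CategoryTheory CategoryTheory.Limits AlgebraicGeometry Opposite StMod GenDescLib
open scoped TensorProduct

noncomputable section

namespace TameStLib

variable {S : Scheme.{u}} {W : BasedCategory.{v, w} (Over S)} (M : Mod W)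

/-- Sections over the source are combinations of pulled back ones, and linear forms on functions act on them. -/
theorem exists_integral (hMc : M.IsCartesian) (hMq : M.IsLocQCoh) {x' x : W.obj} (k : x' ⟶ x)
    [IsAffine (sch W x)] [IsAffine (sch W x')] :
    (∀ y : Γ(M.obj x', ⊤), ∃ (n : ℕ) (f : Fin n → Γ(sch W x', ⊤)) (m : Fin n → Γ(M.obj x, ⊤)),
      y = ∑ i, f i • M.mapTop k (m i)) ∧
    ∀ Φ : Γ(sch W x', ⊤) → Γ(sch W x, ⊤), (∀ f g, Φ (f + g) = Φ f + Φ g) →
      (∀ r f, Φ ((bmap W k).appTop r * f) = r * Φ f) →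
      ∃ h : Γ(M.obj x', ⊤) →+ Γ(M.obj x, ⊤), ∀ f m, h (f • M.mapTop k m) = Φ f • m := by
  let A := Γ(sch W x, ⊤); let A' := Γ(sch W x', ⊤)
  letI : Algebra A A' := (bmap W k).appTop.hom.toAlgebra
  letI : Module A Γ(M.obj x', ⊤) := Module.compHom _ (bmap W k).appTop.hom
  haveI : IsScalarTower A A' Γ(M.obj x', ⊤) := IsScalarTower.of_algebraMap_smul fun _ _ => rfl
  let ψ : Γ(M.obj x, ⊤) →ₗ[A] Γ(M.obj x', ⊤) :=
    { toFun := M.mapTop k
      map_add' := M.mapTop_add k
      map_smul' := fun a m => Mod.mapTop_smul M k a m }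
  have hid : ∀ {X : Scheme.{u}} (a : Γ(X, ⊤)), (𝟙 X : X ⟶ X).appTop a = a := fun a => rfl
  have hb : IsBaseChange A' ψ := isBaseChange_mapTop M hMc hMq k (bmap W k) (𝟙 _) (𝟙 _)
    (IsPullback.of_vert_isIso ⟨by simp⟩) rfl (fun a m => congrArg (· • m) (hid a).symm)
    (fun a m => congrArg (· • m) (hid a).symm) ψ fun _ => rfl
  refine ⟨fun y => ?_, fun Φ hadd hlin => ?_⟩
  · obtain ⟨z, rfl⟩ := hb.equiv.surjective y
    obtain ⟨l, hl⟩ := TensorProduct.exists_multiset z
    refine ⟨l.toList.length, fun i => (l.toList.get i).1, fun i => (l.toList.get i).2, ?_⟩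
    rw [hl, map_multiset_sum, Multiset.map_map]
    conv_lhs => rw [← Multiset.coe_toList l, Multiset.map_coe, Multiset.sum_coe, ← List.ofFn_getElem_eq_map,
      List.sum_ofFn]
    exact Finset.sum_congr rfl fun i _ => hb.equiv_tmul _ _
  · let L : A' →ₗ[A] A :=
      { toFun := Φ
        map_add' := hadd
        map_smul' := fun r f => hlin r f }
    let h : Γ(M.obj x', ⊤) →+ Γ(M.obj x, ⊤) :=
      ((TensorProduct.lid A Γ(M.obj x, ⊤)).toLinearMap ∘ₗ L.rTensor _).toAddMonoidHom.comp
        hb.equiv.symm.toLinearMap.toAddMonoidHom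
    refine ⟨h, fun f m => ?_⟩
    show (TensorProduct.lid A Γ(M.obj x, ⊤)) (L.rTensor _ (hb.equiv.symm (f • ψ m))) = _
    rw [map_smul, hb.equiv_symm_apply, TensorProduct.smul_tmul', LinearMap.rTensor_tmul, TensorProduct.lid_tmul,
      smul_eq_mul, mul_one]
    rfl

end TameStLib
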