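import Groth.Agent.TameStLib.Integral

/-!
# Invariant lifts of invariant sections by integration
-/

set_option autoImplicit false
set_option linter.style.haveILetI false
set_option backward.isDefEq.respectTransparency false
set_option backward.isDefEq.respectTransparency.types false

universe w v u

open CategoryTheory CategoryTheory.Limits AlgebraicGeometry Opposite StMod

noncomputable section

namespace TameStLib

variable {S : Scheme.{u}} {W : BasedCategory.{v, w} (Over S)}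

/-- Surjective maps of modules are surjective on sections invariant under relations with an integral. -/
theorem exists_invariant_lift {F G : QCoh W} (u : F ⟶ G) (hu : Mod.IsSurj u.hom) {x₀ x₁ x₂ : W.obj}
    (p q : x₁ ⟶ x₀) (f₀ f₁ f₂ : x₂ ⟶ x₁) [IsAffine (sch W x₀)] [IsAffine (sch W x₁)] [IsAffine (sch W x₂)]
    (hqp : f₀ ≫ q = f₂ ≫ p) (hqq : f₁ ≫ q = f₂ ≫ q) (hpp : f₀ ≫ p = f₁ ≫ p)
    (Φ : Γ(sch W x₁, ⊤) → Γ(sch W x₀, ⊤)) (hadd : ∀ f g, Φ (f + g) = Φ f + Φ g)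
    (hlin : ∀ r f, Φ ((bmap W q).appTop r * f) = r * Φ f) (hone : Φ 1 = 1)
    (Φ' : Γ(sch W x₂, ⊤) → Γ(sch W x₁, ⊤)) (hadd' : ∀ f g, Φ' (f + g) = Φ' f + Φ' g)
    (hlin' : ∀ r f, Φ' ((bmap W f₂).appTop r * f) = r * Φ' f)
    (he₀ : ∀ f, Φ' ((bmap W f₀).appTop f) = (bmap W p).appTop (Φ f))
    (he₁ : ∀ f, Φ' ((bmap W f₁).appTop f) = (bmap W q).appTop (Φ f))
    (v : Γ(G.obj.obj x₀, ⊤)) (hv : G.obj.mapTop p v = G.obj.mapTop q v) :
    ∃ m : Γ(F.obj.obj x₀, ⊤), F.obj.mapTop p m = F.obj.mapTop q m ∧ (u.hom.app x₀).app ⊤ m = v := by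
  obtain ⟨sF, hF⟩ := exists_integral F.obj F.property.1 F.property.2 q
  obtain ⟨-, hF₂⟩ := exists_integral F.obj F.property.1 F.property.2 f₂
  obtain ⟨-, hG⟩ := exists_integral G.obj G.property.1 G.property.2 q
  obtain ⟨h, hh⟩ := hF Φ hadd hlin
  obtain ⟨h₂, hh₂⟩ := hF₂ Φ' hadd' hlin'
  obtain ⟨k, hk⟩ := hG Φ hadd hlin
  have hs : ∀ {x y : W.obj} (c : x ⟶ y) {ι : Type} (s : Finset ι) (z : ι → Γ(F.obj.obj y, ⊤)),
      F.obj.mapTop c (∑ i ∈ s, z i) = ∑ i ∈ s, F.obj.mapTop c (z i) :=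
    fun c _ s z => map_sum (AddMonoidHom.mk' (F.obj.mapTop c) (F.obj.mapTop_add c)) z s
  have key₀ : ∀ y, F.obj.mapTop p (h y) = h₂ (F.obj.mapTop f₀ y) := fun y => by
    obtain ⟨n, f, m, rfl⟩ := sF y
    rw [map_sum, hs, hs, map_sum]
    refine Finset.sum_congr rfl fun i _ => ?_
    rw [hh, Mod.mapTop_smul, Mod.mapTop_smul, ← Mod.mapTop_comp, hqp, Mod.mapTop_comp, hh₂, he₀]
  have key₁ : ∀ y, F.obj.mapTop q (h y) = h₂ (F.obj.mapTop f₁ y) := fun y => by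
    obtain ⟨n, f, m, rfl⟩ := sF y
    rw [map_sum, hs, hs, map_sum]
    refine Finset.sum_congr rfl fun i _ => ?_
    rw [hh, Mod.mapTop_smul, Mod.mapTop_smul, ← Mod.mapTop_comp, hqq, Mod.mapTop_comp, hh₂, he₁]
  have hu₀ : ∀ y, (u.hom.app x₀).app ⊤ (h y) = k ((u.hom.app x₁).app ⊤ y) := fun y => by
    obtain ⟨n, f, m, rfl⟩ := sF y
    rw [map_sum, map_sum, map_sum, map_sum]
    refine Finset.sum_congr rfl fun i _ => ?_
    rw [hh, QCohLib.app_smul, QCohLib.app_smul, ← Mod.mapTop_app, hk]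
  obtain ⟨m, hm⟩ := hu x₀ ‹_› v
  refine ⟨h (F.obj.mapTop p m), ?_, ?_⟩
  · rw [key₀, key₁, ← Mod.mapTop_comp, ← Mod.mapTop_comp, hpp]
  · rw [hu₀, ← Mod.mapTop_app, hm, hv]
    have h1 : G.obj.mapTop q v = (1 : Γ(sch W x₁, ⊤)) • G.obj.mapTop q v := (one_smul _ _).symm
    rw [h1, hk, hone, one_smul]

end TameStLib
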