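import Groth.Agent.TameStLib.Chart
import Groth.Agent.TameStLib.Lift
import Groth.Agent.TameStLib.Inv
import Groth.Agent.TameStLib.Fam

/-!
# Sections over an affine object of the map to the invariants of a tame action
-/

set_option autoImplicit false
set_option linter.style.haveILetI false
set_option backward.isDefEq.respectTransparency false
set_option backward.isDefEq.respectTransparency.types false
set_option maxHeartbeats 1600000

universe u

open CategoryTheory CategoryTheory.Limits MonoidalCategory CartesianMonoidalCategory AlgebraicGeometry FibCat StMod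
open scoped TensorProduct MonObj

noncomputable section

namespace TameStLib

open CoactBr (sp pt)

section Sections

variable {T T' : Type u} [CommRing T] [CommRing T']

/-- Elements as functions on the spectrum. -/
def toG (T : Type u) [CommRing T] : T →+* Γ(Spec (CommRingCat.of T), ⊤) :=
  (Scheme.ΓSpecIso (CommRingCat.of T)).inv.hom

/-- Functions on the spectrum as elements. -/
def ofG (T : Type u) [CommRing T] : Γ(Spec (CommRingCat.of T), ⊤) →+* T :=
  (Scheme.ΓSpecIso (CommRingCat.of T)).hom.hom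

theorem ofG_toG (t : T) : ofG T (toG T t) = t :=
  congr($((Scheme.ΓSpecIso (CommRingCat.of T)).inv_hom_id) t)

theorem toG_ofG (s : Γ(Spec (CommRingCat.of T), ⊤)) : toG T (ofG T s) = s :=
  congr($((Scheme.ΓSpecIso (CommRingCat.of T)).hom_inv_id) s)

theorem appTop_map (f : T →+* T') (s : Γ(Spec (CommRingCat.of T), ⊤)) :
    (Spec.map (CommRingCat.ofHom f)).appTop s = toG T' (f (ofG T s)) := by
  conv_lhs => rw [← toG_ofG s]
  exact congr($(Scheme.ΓSpecIso_inv_naturality (CommRingCat.ofHom f)) (ofG T s)).symm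

end Sections

variable {R : Type u} [CommRing R] {A : Type u} [CommRing A] [HopfAlgebra R A]
variable {B : Type u} [CommRing B] [Algebra R B] [HopfRep.Comod R A B] [GLin.IsCoactAlg R A B]
variable {ρ : QS R A B ⥤ᵇ AlgSt.ofSch (sp R ↥(GLin.invariants R A B))}
  {ob : (AlgSt.ofSch (sp R ↥(GLin.invariants R A B))).obj} {C : Type u} [CommRing C] [Algebra R C]
  [Algebra ↥(GLin.invariants R A B) C] [IsScalarTower R ↥(GLin.invariants R A B) C] (Q : Dat R A B ρ ob C)

theorem bmap_of_pair {T T' : Over (Spec (CommRingCat.of R))} {x : T ⟶ sp R B} {x' : T' ⟶ sp R B}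
    {k : (tv x : (QS R A B).obj) ⟶ tv x'} {f : T ⟶ T'} {g : T ⟶ sp R A} (h : IsPair k f g) :
    bmap (QS R A B) k = f.left := congrArg CommaMorphism.left h.1

/-- Integration on functions on the relations. -/
def ΦG (α : A →ₗ[R] B) (f : Γ(Spec (CommRingCat.of (Ω₁ R A B C)), ⊤)) : Γ(Spec (CommRingCat.of (Ω₀ R A B C)), ⊤) :=
  toG _ (Φ R A B C α (ofG _ f))

/-- Integration on functions on pairs of relations. -/
def ΦG' (α : A →ₗ[R] B) (f : Γ(Spec (CommRingCat.of (Ω₂ R A B C)), ⊤)) : Γ(Spec (CommRingCat.of (Ω₁ R A B C)), ⊤) :=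
  toG _ (Φ' R A B C α (ofG _ f))

theorem ΦG_lin (α : A →ₗ[R] B) {g : Spec (CommRingCat.of (Ω₁ R A B C)) ⟶ Spec (CommRingCat.of (Ω₀ R A B C))}
    (hg : g = Spec.map (CommRingCat.ofHom (qHom R A B C).toRingHom))
    (r : Γ(Spec (CommRingCat.of (Ω₀ R A B C)), ⊤)) (f : Γ(Spec (CommRingCat.of (Ω₁ R A B C)), ⊤)) :
    ΦG α (g.appTop r * f) = r * ΦG α f := by
  rw [hg, ΦG, appTop_map, map_mul, ofG_toG]
  erw [Φ_q_mul]
  rw [map_mul, toG_ofG]
  rfl

theorem ΦG'_lin (α : A →ₗ[R] B) {g : Spec (CommRingCat.of (Ω₂ R A B C)) ⟶ Spec (CommRingCat.of (Ω₁ R A B C))}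
    (hg : g = Spec.map (CommRingCat.ofHom (d₂ R A B C).toRingHom))
    (r : Γ(Spec (CommRingCat.of (Ω₁ R A B C)), ⊤)) (f : Γ(Spec (CommRingCat.of (Ω₂ R A B C)), ⊤)) :
    ΦG' α (g.appTop r * f) = r * ΦG' α f := by
  rw [hg, ΦG', appTop_map, map_mul, ofG_toG]
  erw [Φ'_d₂_mul]
  rw [map_mul, toG_ofG]
  rfl

theorem ΦG'_face₀ (α : A →ₗ[R] B) {g : Spec (CommRingCat.of (Ω₂ R A B C)) ⟶ Spec (CommRingCat.of (Ω₁ R A B C))}
    (hg : g = Spec.map (CommRingCat.ofHom (d₀ R A B C).toRingHom))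
    {k : Spec (CommRingCat.of (Ω₁ R A B C)) ⟶ Spec (CommRingCat.of (Ω₀ R A B C))}
    (hk : k = Spec.map (CommRingCat.ofHom (pHom R A B C).toRingHom))
    (f : Γ(Spec (CommRingCat.of (Ω₁ R A B C)), ⊤)) : ΦG' α (g.appTop f) = k.appTop (ΦG α f) := by
  rw [hg, hk, ΦG', appTop_map, appTop_map, ΦG, ofG_toG, ofG_toG]
  exact congrArg _ (Φ'_d₀ R A B C α _)

theorem ΦG'_face₁ (α : A →ₗ[R] B) (hα : Hoch.IsComodHom A α)
    {g : Spec (CommRingCat.of (Ω₂ R A B C)) ⟶ Spec (CommRingCat.of (Ω₁ R A B C))}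
    (hg : g = Spec.map (CommRingCat.ofHom (d₁ R A B C).toRingHom))
    {k : Spec (CommRingCat.of (Ω₁ R A B C)) ⟶ Spec (CommRingCat.of (Ω₀ R A B C))}
    (hk : k = Spec.map (CommRingCat.ofHom (qHom R A B C).toRingHom))
    (f : Γ(Spec (CommRingCat.of (Ω₁ R A B C)), ⊤)) : ΦG' α (g.appTop f) = k.appTop (ΦG α f) := by
  rw [hg, hk, ΦG', appTop_map, appTop_map, ΦG, ofG_toG, ofG_toG]
  exact congrArg _ (Φ'_d₁ R A B C α hα _)

include Q in
theorem surjective_relSectMap [IsFibGrpd (QS R A B).p] (α : A →ₗ[R] B) (hα : Hoch.IsComodHom A α) (h1 : α 1 = 1)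
    {F G : QCoh (QS R A B)} (u : F ⟶ G) (hu : Mod.IsSurj u.hom) :
    Function.Surjective (Mod.relSectMap ρ u.hom ob) := by
  obtain ⟨p, q, f₀, f₁, f₂, ⟨hp, hq⟩, ⟨h₀, h₁, h₂⟩, e0, e1, e2⟩ := exists_maps Q
  refine surjective_of_chart (chart Q hp hq) u fun v hv => ?_
  haveI : IsAffine (sch (QS R A B) (w₀ Q).left) := inferInstanceAs (IsAffine (Spec (CommRingCat.of (Ω₀ R A B C))))
  haveI : IsAffine (sch (QS R A B) (w₁ Q).left) := inferInstanceAs (IsAffine (Spec (CommRingCat.of (Ω₁ R A B C))))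
  haveI : IsAffine (sch (QS R A B) (w₂ Q).left) := inferInstanceAs (IsAffine (Spec (CommRingCat.of (Ω₂ R A B C))))
  exact exists_invariant_lift u hu p.left q.left f₀.left f₁.left f₂.left
    (congrArg CommaMorphism.left e0) (congrArg CommaMorphism.left e1) (congrArg CommaMorphism.left e2)
    (ΦG α) (fun f g => by
      show toG _ (Φ R A B C α (ofG _ (_ + _))) = _
      rw [map_add, map_add, map_add]
      rfl)
    (ΦG_lin α (bmap_of_pair hq))
    (by
      show toG _ (Φ R A B C α (ofG _ 1)) = _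
      rw [map_one, Φ_one R A B C α h1, map_one])
    (ΦG' α) (fun f g => by
      show toG _ (Φ' R A B C α (ofG _ (_ + _))) = _
      rw [map_add, map_add, map_add]
      rfl)
    (ΦG'_lin α (bmap_of_pair h₂)) (ΦG'_face₀ α (bmap_of_pair h₀) (bmap_of_pair hp))
    (ΦG'_face₁ α hα (bmap_of_pair h₁) (bmap_of_pair hq)) v hv

include Q in
theorem bijective_unitSect [IsFibGrpd (QS R A B).p] (α : A →ₗ[R] B) (hα : Hoch.IsComodHom A α) (h1 : α 1 = 1) :
    Function.Bijective (unitSect ρ ob) := by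
  obtain ⟨p, q, f₀, f₁, f₂, ⟨hp, hq⟩, -, -, -, -⟩ := exists_maps Q
  have hW := chart Q hp hq
  let j : ob.base.left ≅ Spec (CommRingCat.of C) := (Over.forget _).mapIso Q.i
  have hb : (baseOver ρ (w₀ Q).left (w₀ Q).hom).left =
      Spec.map (CommRingCat.ofHom (xC R A B C).toRingHom) ≫ j.inv := by
    show (eqToHom (ρ.w_obj (w₀ Q).left).symm ≫ (w₀ Q).hom.hom).left = _
    rw [mk_hom, eqToHom_trans_assoc, eqToHom_refl, Category.id_comp]
    rfl
  have hval : ∀ r : Γ(ob.base.left, ⊤), (unitSect ρ ob r).1 (w₀ Q).left (w₀ Q).hom =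
      toG _ (xC R A B C (ofG C (j.inv.appTop r))) := fun r => by
    show (baseOver ρ (w₀ Q).left (w₀ Q).hom).left.appTop r = _
    rw [hb]
    exact appTop_map _ _
  have hj : ∀ r, j.hom.appTop (j.inv.appTop r) = r := fun r =>
    congr(Scheme.Hom.appTop $(j.hom_inv_id) r)
  have hj' : ∀ r, j.inv.appTop (j.hom.appTop r) = r := fun r =>
    congr(Scheme.Hom.appTop $(j.inv_hom_id) r)
  refine ⟨fun r r' e => ?_, fun s => ?_⟩
  · have e' := congrArg (fun t : (O (QS R A B)).RelSect ρ ob => ofG (Ω₀ R A B C) (t.1 (w₀ Q).left (w₀ Q).hom)) e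
    simp only [hval] at e'
    rw [ofG_toG, ofG_toG] at e'
    have e'' := congrArg (toG C) (xC_injective C α hα h1 e')
    rw [toG_ofG, toG_ofG] at e''
    rw [← hj r, e'', hj]
  · let v : Γ(Spec (CommRingCat.of (Ω₀ R A B C)), ⊤) := s.1 (w₀ Q).left (w₀ Q).hom
    have hv : (bmap (QS R A B) p.left).appTop v = (bmap (QS R A B) q.left).appTop v :=
      (s.2 p.left (w₀ Q).hom).trans ((congrArg (s.1 _) ((CostructuredArrow.w p).trans (CostructuredArrow.w q).symm)).trans
        (s.2 q.left (w₀ Q).hom).symm)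
    rw [bmap_of_pair hp, bmap_of_pair hq] at hv
    erw [appTop_map, appTop_map] at hv
    have hv' := congrArg (ofG _) hv
    erw [ofG_toG, ofG_toG] at hv'
    obtain ⟨c, hc⟩ := exists_of_invariant C α hα h1 (ofG _ v) hv'
    refine ⟨j.hom.appTop (toG C c), ?_⟩
    refine relSect_ext_chart hW (OQ (𝒳 := QS R A B)) _ _ ?_
    refine (hval _).trans ?_
    rw [hj', ofG_toG, hc]
    exact toG_ofG v

end TameStLib
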