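import Groth.Agent.QuotStLib.Basic

/-!
# The morphisms of trivial torsors as pairs of a morphism of bases and a point of the group
-/

set_option autoImplicit false
set_option linter.style.haveILetI false
set_option backward.isDefEq.respectTransparency false
set_option backward.isDefEq.respectTransparency.types false

noncomputable section

universe u

open CategoryTheory CategoryTheory.Limits MonoidalCategory CartesianMonoidalCategory AlgebraicGeometry
open scoped MonObj

namespace TameStLib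

open QuotStLib (triv)

variable {S : Scheme.{u}} {G X : Over S} [GrpObj G] {K : Precoverage Scheme.{u}} [K.HasIsos] {aX : AlgGrp.Action G X}

/-- A morphism of trivial torsors is given by a morphism of bases and a point of the group. -/
def IsPair {T T' : Over S} {x : T ⟶ X} {x' : T' ⟶ X} (h : triv K aX x ⟶ triv K aX x') (f : T ⟶ T') (g : T ⟶ G) :
    Prop :=
  h.base = f ∧ h.top = lift (fst G T * (snd G T ≫ g)) (snd G T ≫ f)

theorem exists_pair {T T' : Over S} (f : T ⟶ T') (g : T ⟶ G) (x : T ⟶ X) (x' : T' ⟶ X)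
    (h : lift g (f ≫ x') ≫ aX.act = x) : ∃ k : triv K aX x ⟶ triv K aX x', IsPair k f g :=
  (QuotStLib.hom_iff f x x').2 g h

theorem exists_isPair {T T' : Over S} {x : T ⟶ X} {x' : T' ⟶ X} (h : triv K aX x ⟶ triv K aX x') :
    ∃ (f : T ⟶ T') (g : T ⟶ G), lift g (f ≫ x') ≫ aX.act = x ∧ IsPair h f g := by
  obtain ⟨g, hg, hg'⟩ := (QuotStLib.hom_iff h.base x x').1 h rfl
  exact ⟨h.base, g, hg, rfl, hg'⟩

theorem IsPair.ext {T T' : Over S} {x : T ⟶ X} {x' : T' ⟶ X} {h h' : triv K aX x ⟶ triv K aX x'} {f f' : T ⟶ T'}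
    {g g' : T ⟶ G} (p : IsPair h f g) (p' : IsPair h' f' g') (ef : f = f') (eg : g = g') : h = h' :=
  AlgSt.QuotObj.hom_ext (p.1.trans (ef.trans p'.1.symm)) (by rw [p.2, p'.2, ef, eg])

theorem IsPair.comp {T T' T'' : Over S} {x : T ⟶ X} {x' : T' ⟶ X} {x'' : T'' ⟶ X}
    {h : triv K aX x ⟶ triv K aX x'} {h' : triv K aX x' ⟶ triv K aX x''} {f : T ⟶ T'} {g : T ⟶ G}
    {f' : T' ⟶ T''} {g' : T' ⟶ G} (p : IsPair h f g) (p' : IsPair h' f' g') :
    IsPair (h ≫ h') (f ≫ f') (g * (f ≫ g')) := by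
  refine ⟨?_, ?_⟩
  · rw [AlgSt.QuotObj.comp_base, p.1, p'.1]
  · show h.top ≫ h'.top = _
    rw [p.2, p'.2]
    simp [comp_lift, MonObj.comp_mul, mul_assoc]

theorem isPair_id {T : Over S} (x : T ⟶ X) : IsPair (𝟙 (triv K aX x)) (𝟙 T) 1 := by
  refine ⟨rfl, ?_⟩
  show 𝟙 (G ⊗ T) = _
  simp

end TameStLib
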