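import Groth.Agent.TameStLib.Alg
import Groth.Agent.TameStLib.Triv
import Groth.Agent.StPushLib.OverSp
import Groth.Agent.QuotStLib.Torsor
import Groth.Agent.GenDescLib.Main

/-!
# Objects of the fibre of the map to the invariants
-/

set_option autoImplicit false
set_option linter.style.haveILetI false
set_option backward.isDefEq.respectTransparency false
set_option backward.isDefEq.respectTransparency.types false
set_option maxHeartbeats 800000

universe u

open CategoryTheory CategoryTheory.Limits MonoidalCategory CartesianMonoidalCategory AlgebraicGeometry FibCat StMod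
open scoped TensorProduct MonObj

noncomputable section

namespace TameStLib

open QuotStLib (triv)

variable {R : Type u} [CommRing R] {A : Type u} [CommRing A] [HopfAlgebra R A]
variable {B : Type u} [CommRing B] [Algebra R B] [HopfRep.Comod R A B] [GLin.IsCoactAlg R A B]
variable {D : Type u} [CommRing D] [Algebra R D] (jD : D →ₐ[R] B)

/-- The quotient stack. -/
abbrev QS (R A B : Type u) [CommRing R] [CommRing A] [HopfAlgebra R A] [CommRing B] [Algebra R B]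
    [HopfRep.Comod R A B] [GLin.IsCoactAlg R A B] : AlgSt.Cat (Spec (CommRingCat.of R)) :=
  AlgSt.QuotSt Scheme.fppfPrecoverage (CoactBr.sp R A) (CoactBr.action R A B)

variable (ρ : QS R A B ⥤ᵇ AlgSt.ofSch (CoactBr.sp R D))
  (hρ : BasedFunctor.comp (AlgSt.quotMap Scheme.fppfPrecoverage (CoactBr.sp R A) (CoactBr.action R A B)) ρ =
    AlgSt.ofSpMap ((AlgSp.yon (Spec (CommRingCat.of R))).map (CoactBr.pt jD)))

/-- The trivial torsor. -/
abbrev tv {T : Over (Spec (CommRingCat.of R))} (x : T ⟶ CoactBr.sp R B) : (QS R A B).obj :=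
  triv Scheme.fppfPrecoverage (CoactBr.action R A B) x

include hρ in
theorem obj_tv {T : Over (Spec (CommRingCat.of R))} (x : T ⟶ CoactBr.sp R B) :
    ρ.obj (tv x) = ⟨T, ULift.up (x ≫ CoactBr.pt jD)⟩ :=
  congrArg (fun F : AlgSt.ofSch (CoactBr.sp R B) ⥤ᵇ AlgSt.ofSch (CoactBr.sp R D) =>
    F.obj ((AlgSt.ofOverCat (CoactBr.sp R B)).obj (Over.mk x))) hρ

variable {ob : (AlgSt.ofSch (CoactBr.sp R D)).obj}

/-- The object over `ob` of a trivial torsor. -/
def mk (T : Over (Spec (CommRingCat.of R))) (x : T ⟶ CoactBr.sp R B) (e : T ⟶ ob.base)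
    (h : e ≫ ob.sec.down = x ≫ CoactBr.pt jD) : (fibCat ρ ob).obj :=
  CostructuredArrow.mk (S := ρ.toFunctor) (Y := (tv x : (QS R A B).obj))
    (eqToHom (obj_tv jD ρ hρ x) ≫ (⟨e, congrArg ULift.up h⟩ : (⟨T, ULift.up (x ≫ CoactBr.pt jD)⟩ :
      (AlgSt.ofSch (CoactBr.sp R D)).obj) ⟶ ob))

variable {jD ρ hρ}

theorem mk_hom {T : Over (Spec (CommRingCat.of R))} {x : T ⟶ CoactBr.sp R B} {e : T ⟶ ob.base}
    (h : e ≫ ob.sec.down = x ≫ CoactBr.pt jD) :
    (mk jD ρ hρ T x e h).hom.hom = eqToHom (ρ.w_obj (tv x)) ≫ e := by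
  show (eqToHom (obj_tv jD ρ hρ x)).hom ≫ e = _
  rw [AlgStLib.eqToHom_hom]

theorem exists_eq_mk {A' : (QS R A B).obj} (α : ρ.obj A' ⟶ ob) {T : Over (Spec (CommRingCat.of R))}
    {x : T ⟶ CoactBr.sp R B} (c : tv x ⟶ A') :
    ∃ (e : T ⟶ ob.base) (h : e ≫ ob.sec.down = x ≫ CoactBr.pt jD),
      ∃ φ : mk jD ρ hρ T x e h ⟶ CostructuredArrow.mk (S := ρ.toFunctor) (Y := A') α, φ.left = c := by
  let β : (⟨T, ULift.up (x ≫ CoactBr.pt jD)⟩ : (AlgSt.ofSch (CoactBr.sp R D)).obj) ⟶ ob :=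
    eqToHom (obj_tv jD ρ hρ x).symm ≫ ρ.map c ≫ α
  refine ⟨β.hom, congrArg ULift.down β.map_sec, CostructuredArrow.homMk c ?_, rfl⟩
  show ρ.map c ≫ α = eqToHom (obj_tv jD ρ hρ x) ≫ _
  rw [show (⟨β.hom, _⟩ : (⟨T, ULift.up (x ≫ CoactBr.pt jD)⟩ : (AlgSt.ofSch (CoactBr.sp R D)).obj) ⟶ ob) = β from
    Stk.EltObj.hom_ext rfl]
  simp [β]

theorem exists_mkHom {T T' : Over (Spec (CommRingCat.of R))} {x : T ⟶ CoactBr.sp R B} {x' : T' ⟶ CoactBr.sp R B}
    {e : T ⟶ ob.base} {e' : T' ⟶ ob.base} (h : e ≫ ob.sec.down = x ≫ CoactBr.pt jD)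
    (h' : e' ≫ ob.sec.down = x' ≫ CoactBr.pt jD) (k : (tv x : (QS R A B).obj) ⟶ tv x') (hk : k.base ≫ e' = e) :
    ∃ φ : mk jD ρ hρ T x e h ⟶ mk jD ρ hρ T' x' e' h', φ.left = k := by
  refine ⟨CostructuredArrow.homMk k (Stk.EltObj.hom_ext ?_), rfl⟩
  show (ρ.map k).hom ≫ (mk jD ρ hρ T' x' e' h').hom.hom = (mk jD ρ hρ T x e h).hom.hom
  rw [StPushLib.map_hom, mk_hom, mk_hom]
  simp only [Category.assoc, eqToHom_trans_assoc, eqToHom_refl, Category.id_comp]
  exact congrArg (eqToHom (ρ.w_obj (tv x)) ≫ ·) hk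

theorem base_comp_eq {T T' : Over (Spec (CommRingCat.of R))} {x : T ⟶ CoactBr.sp R B} {x' : T' ⟶ CoactBr.sp R B}
    {e : T ⟶ ob.base} {e' : T' ⟶ ob.base} {h : e ≫ ob.sec.down = x ≫ CoactBr.pt jD}
    {h' : e' ≫ ob.sec.down = x' ≫ CoactBr.pt jD} (φ : mk jD ρ hρ T x e h ⟶ mk jD ρ hρ T' x' e' h') :
    φ.left.base ≫ e' = e := by
  have h1 : (ρ.map φ.left).hom ≫ (mk jD ρ hρ T' x' e' h').hom.hom = (mk jD ρ hρ T x e h).hom.hom :=
    congrArg Stk.EltObj.Hom.hom (CostructuredArrow.w φ)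
  rw [StPushLib.map_hom, mk_hom, mk_hom] at h1
  simp only [Category.assoc, eqToHom_trans_assoc, eqToHom_refl, Category.id_comp] at h1
  exact (cancel_epi (eqToHom (ρ.w_obj (tv x)))).1 h1

/-- The torsors are trivial after one faithfully flat finitely presented base change. -/
theorem exists_cover (y : (fibCat ρ ob).obj) :
    ∃ (T : Over (Spec (CommRingCat.of R))) (x : T ⟶ CoactBr.sp R B) (e : T ⟶ ob.base)
      (h : e ≫ ob.sec.down = x ≫ CoactBr.pt jD) (c : mk jD ρ hρ T x e h ⟶ y),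
      Flat (bmap (fibCat ρ ob) c) ∧ Surjective (bmap (fibCat ρ ob) c) ∧
        LocallyOfFinitePresentation (bmap (fibCat ρ ob) c) := by
  let y0 : (QS R A B).obj := y.left
  obtain ⟨V, v, σ, hσ, h1, h2, h3⟩ := QuotStLib.exists_sections y0
  haveI := h1; haveI := h2
  let V0 : Over (Spec (CommRingCat.of R)) := Over.mk (Sigma.desc fun t => (V t).hom)
  let v0 : V0 ⟶ y0.base := Over.homMk (Sigma.desc fun t => (v t).left)
    (show Sigma.desc (fun t => (v t).left) ≫ y0.base.hom = Sigma.desc (fun t => (V t).hom) from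
      Sigma.hom_ext _ _ fun t => by simp)
  let σ0 : V0 ⟶ y0.P := Over.homMk (Sigma.desc fun t => (σ t).left)
    (show Sigma.desc (fun t => (σ t).left) ≫ y0.P.hom = Sigma.desc (fun t => (V t).hom) from
      Sigma.hom_ext _ _ fun t => by simp)
  have hσ0 : σ0 ≫ y0.π = v0 := Over.OverMorphism.ext (by
    show Sigma.desc (fun t => (σ t).left) ≫ y0.π.left = Sigma.desc fun t => (v t).left
    exact Sigma.hom_ext _ _ fun t => by
      rw [Sigma.ι_desc_assoc, Sigma.ι_desc, ← Over.comp_left, hσ])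
  let c0 : (tv (σ0 ≫ y0.φ) : (QS R A B).obj) ⟶ y0 := QuotStLib.homOfSection y0 σ0 (σ0 ≫ y0.φ) rfl v0 hσ0
  obtain ⟨e, h, φ, hφ⟩ := exists_eq_mk (jD := jD) (hρ := hρ) (A' := y0) y.hom c0
  refine ⟨V0, σ0 ≫ y0.φ, e, h, φ, ?_⟩
  have hb : bmap (fibCat ρ ob) φ = Sigma.desc fun t => (v t).left := by
    show ((QS R A B).p.map φ.left).left = _
    rw [hφ]; rfl
  rw [hb]
  refine ⟨IsZariskiLocalAtSource.sigmaDesc (P := @Flat) h1, ⟨fun p => ?_⟩,
    IsZariskiLocalAtSource.sigmaDesc (P := @LocallyOfFinitePresentation) h2⟩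
  obtain ⟨q, hq⟩ := h3 p
  exact ⟨Sigma.ι (fun t => (V t).left) p q,
    (Scheme.Hom.comp_apply (Sigma.ι (fun t => (V t).left) p) (Sigma.desc fun t => (v t).left) q).symm.trans
      ((congrArg (fun g : (V p).left ⟶ y0.base.left => g q) (Sigma.ι_desc _ p)).trans hq)⟩

end TameStLib
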