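import Groth.Agent.TameStLib.Twist
import Groth.Agent.TameStLib.Main
import Groth.Agent.StPushLib.SurjLoc
import Groth.Agent.StPushLib.System

/-!
# Trivialised members of an affine quotient stack and their coordinates
-/

set_option autoImplicit false
set_option linter.style.haveILetI false
set_option backward.isDefEq.respectTransparency false
set_option backward.isDefEq.respectTransparency.types false
set_option maxHeartbeats 800000

universe u

open CategoryTheory CategoryTheory.Limits MonoidalCategory CartesianMonoidalCategory AlgebraicGeometry FibCat StMod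
open scoped TensorProduct MonObj

noncomputable section

namespace TameStLib

open CoactBr (sp pt)

theorem exists_pt {R K L : Type u} [CommRing R] [CommRing K] [Algebra R K] [CommRing L] [Algebra R L]
    (f : sp R K ⟶ sp R L) : ∃ φ : L →ₐ[R] K, pt φ = f := by
  let φ₀ := Spec.preimage f.left
  have h : CommRingCat.ofHom (algebraMap R L) ≫ φ₀ = CommRingCat.ofHom (algebraMap R K) := by
    refine Spec.map_injective ?_
    rw [Spec.map_comp, Spec.map_preimage]
    exact Over.w f
  refine ⟨{ toRingHom := φ₀.hom, commutes' := fun r => congr($h r) }, Over.OverMorphism.ext ?_⟩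
  exact Spec.map_preimage f.left

theorem IsPair.unique {S : Scheme.{u}} {G X : Over S} [GrpObj G] {K : Precoverage Scheme.{u}} [K.HasIsos]
    {aX : AlgGrp.Action G X} {T T' : Over S} {x : T ⟶ X} {x' : T' ⟶ X}
    {h : QuotStLib.triv K aX x ⟶ QuotStLib.triv K aX x'} {f f' : T ⟶ T'} {g g' : T ⟶ G}
    (p : IsPair h f g) (p' : IsPair h f' g') : f = f' ∧ g = g' := by
  refine ⟨p.1.symm.trans p'.1, ?_⟩
  have e := congrArg (fun k => lift (1 : T ⟶ G) (𝟙 T) ≫ k ≫ fst G T') (p.2.symm.trans p'.2)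
  simpa [MonObj.comp_mul, comp_lift] using e

variable {R : Type u} [CommRing R] {A : Type u} [CommRing A] [HopfAlgebra R A]
variable {B : Type u} [CommRing B] [Algebra R B] [HopfRep.Comod R A B] [GLin.IsCoactAlg R A B]

/-- A trivialisation of an object over an affine scheme flat over the total space. -/
structure Pres (z : (QS R A B).obj) where
  /-- the ring -/
  C : Type u
  ring : CommRing C
  algR : Algebra R C
  algB : Algebra B C
  tower : IsScalarTower R B C
  flat : Flat (pt (IsScalarTower.toAlgHom R B C)).left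
  /-- the trivialisation -/
  i : z ≅ tv (pt (IsScalarTower.toAlgHom R B C))

attribute [instance] Pres.ring Pres.algR Pres.algB Pres.tower

namespace Pres

variable {z z' z'' : (QS R A B).obj} (P : Pres z) (P' : Pres z') (P'' : Pres z'')

/-- The structure map. -/
abbrev β : B →ₐ[R] P.C := IsScalarTower.toAlgHom R B P.C

/-- The functions on a trivialised object. -/
def χ : Γ(sch (QS R A B) z, ⊤) →+* P.C := (ofG P.C).comp (bmap (QS R A B) P.i.inv).appTop.hom

theorem isIso_bmap_inv : IsIso (bmap (QS R A B) P.i.inv) := StPushLib.isIso_bmap P.i.inv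

theorem χ_bijective : Function.Bijective P.χ := by
  haveI := P.isIso_bmap_inv
  refine Function.Bijective.comp (f := (bmap (QS R A B) P.i.inv).appTop.hom) (g := ofG P.C) ?_ ?_
  · exact ⟨Function.LeftInverse.injective (g := toG P.C) toG_ofG, fun x => ⟨toG P.C x, ofG_toG x⟩⟩
  · exact ConcreteCategory.bijective_of_isIso (C := CommRingCat) _

include P in
theorem isAffine : IsAffine (sch (QS R A B) z) := by
  haveI := P.isIso_bmap_inv
  haveI : IsAffine (sch (QS R A B) (tv (pt P.β) : (QS R A B).obj)) :=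
    inferInstanceAs (IsAffine (Spec (CommRingCat.of P.C)))
  exact IsAffine.of_isIso (inv (bmap (QS R A B) P.i.inv))

/-- The coordinates of a morphism. -/
def IsCoord (l : z' ⟶ z) (φ : P.C →ₐ[R] P'.C) (gam : A →ₐ[R] P'.C) : Prop :=
  IsPair (P'.i.inv ≫ l ≫ P.i.hom) (pt φ) (pt gam)

theorem exists_coord (l : z' ⟶ z) : ∃ φ gam, P.IsCoord P' l φ gam := by
  obtain ⟨f, g, -, hp⟩ := exists_isPair (P'.i.inv ≫ l ≫ P.i.hom)
  obtain ⟨φ, rfl⟩ := exists_pt f
  obtain ⟨gam, rfl⟩ := exists_pt g
  exact ⟨φ, gam, hp⟩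

variable {P P' P''} {l : z' ⟶ z} {φ φ' : P.C →ₐ[R] P'.C} {gam gam' : A →ₐ[R] P'.C}

theorem IsCoord.eq (h : P.IsCoord P' l φ gam) (h' : P.IsCoord P' l φ' gam') : φ = φ' ∧ gam = gam' :=
  ⟨CoactBr.pt_injective (h.unique h').1, CoactBr.pt_injective (h.unique h').2⟩

theorem IsCoord.balance' (h : P.IsCoord P' l φ gam) (b : B) :
    P'.β b = Algebra.TensorProduct.lift (φ.comp P.β) (gam.comp (HopfAlgebra.antipodeAlgHom R A))
      (fun _ _ => .all _ _) (HopfRep.Comod.coact (k := R) (A := A) b) := by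
  obtain ⟨f, g, hg, hp⟩ := exists_isPair (P'.i.inv ≫ l ≫ P.i.hom)
  obtain ⟨rfl, rfl⟩ := IsPair.unique hp h
  rw [← CoactBr.pt_comp, CoactBr.lift_pt_action_act] at hg
  exact (AlgHom.congr_fun (CoactBr.pt_injective hg) b).symm

theorem IsCoord.balance (h : P.IsCoord P' l φ gam) (b : B) :
    φ (algebraMap B P.C b) = Algebra.TensorProduct.lift P'.β gam (fun _ _ => .all _ _)
      (HopfRep.Comod.coact (k := R) (A := A) b) := by
  obtain ⟨f, g, hg, hp⟩ := exists_isPair (P'.i.inv ≫ l ≫ P.i.hom)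
  obtain ⟨rfl, rfl⟩ := IsPair.unique hp h
  have e := congrArg (fun y => lift (pt gam)⁻¹ y ≫ (CoactBr.action R A B).act) hg
  simp only [act_inv_cancel] at e
  rw [← CoactBr.pt_comp, CoactBr.pt_inv, CoactBr.lift_pt_action_act] at e
  have e' := AlgHom.congr_fun (CoactBr.pt_injective e) b
  refine e'.trans ?_
  show Algebra.TensorProduct.lift P'.β ((gam.comp (HopfAlgebra.antipodeAlgHom R A)).comp
    (HopfAlgebra.antipodeAlgHom R A)) (fun _ _ => .all _ _) (HopfRep.Comod.coact (k := R) (A := A) b) = _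
  congr 1
  congr 1
  exact AlgHom.ext fun a => by simp [antipode_antipode']

theorem isCoord_id : P.IsCoord P (𝟙 z) (AlgHom.id R P.C) (unitPt R A P.C) := by
  show IsPair (P.i.inv ≫ 𝟙 z ≫ P.i.hom) _ _
  rw [Category.id_comp, Iso.inv_hom_id, CoactBr.pt_id, show pt (unitPt R A P.C) = 1 from CoactBr.one_eq_pt.symm]
  exact isPair_id _

theorem IsCoord.comp {l' : z'' ⟶ z'} {φ₁ : P'.C →ₐ[R] P''.C} {gam₁ : A →ₐ[R] P''.C} (h' : P'.IsCoord P'' l' φ₁ gam₁)
    (h : P.IsCoord P' l φ gam) : P.IsCoord P'' (l' ≫ l) (φ₁.comp φ) (conv gam₁ (φ₁.comp gam)) := by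
  show IsPair (P''.i.inv ≫ (l' ≫ l) ≫ P.i.hom) _ _
  have e : P''.i.inv ≫ (l' ≫ l) ≫ P.i.hom = (P''.i.inv ≫ l' ≫ P'.i.hom) ≫ (P'.i.inv ≫ l ≫ P.i.hom) := by simp
  rw [e, CoactBr.pt_comp, show pt (conv gam₁ (φ₁.comp gam)) = pt gam₁ * (pt φ₁ ≫ pt gam) by
    rw [← CoactBr.pt_comp, CoactBr.pt_mul_pt]; rfl]
  exact IsPair.comp h' h

theorem IsCoord.χ_map (h : P.IsCoord P' l φ gam) (a : Γ(sch (QS R A B) z, ⊤)) :
    P'.χ ((bmap (QS R A B) l).appTop a) = φ (P.χ a) := by
  have hb : bmap (QS R A B) (P'.i.inv ≫ l ≫ P.i.hom) = Spec.map (CommRingCat.ofHom φ.toRingHom) := by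
    show (P'.i.inv ≫ l ≫ P.i.hom : (tv _ : (QS R A B).obj) ⟶ tv _).base.left = _
    rw [h.1]; rfl
  have e : bmap (QS R A B) P'.i.inv ≫ bmap (QS R A B) l =
      Spec.map (CommRingCat.ofHom φ.toRingHom) ≫ bmap (QS R A B) P.i.inv := by
    rw [← hb, ← bmap_comp, ← bmap_comp]
    simp
  show ofG P'.C ((bmap (QS R A B) P'.i.inv).appTop ((bmap (QS R A B) l).appTop a)) = _
  refine (congrArg (ofG P'.C) (congr(Scheme.Hom.appTop $e a))).trans ?_
  show ofG P'.C ((Spec.map (CommRingCat.ofHom φ.toRingHom)).appTop ((bmap (QS R A B) P.i.inv).appTop a)) = _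
  erw [appTop_map]
  rw [ofG_toG]
  rfl

variable {M : Type u} [AddCommGroup M] [Module R M] [Module B M] [IsScalarTower R B M]
  [HopfRep.Comod R A M] [TameAct.IsHopfMod R A B M]
variable (P P') (M)

/-- The map of scalar extensions of a morphism. -/
def th (l : z' ⟶ z) : P.C ⊗[B] M →ₗ[R] P'.C ⊗[B] M :=
  (exists_theta (M := M) (exists_coord P P' l).choose (exists_coord P P' l).choose_spec.choose
    (IsCoord.balance (exists_coord P P' l).choose_spec.choose_spec)).choose

variable {P P'} {M}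

theorem th_smul (h : P.IsCoord P' l φ gam) (c : P.C) (x : P.C ⊗[B] M) : th P P' M l (c • x) = φ c • th P P' M l x := by
  rw [(h.eq (exists_coord P P' l).choose_spec.choose_spec).1]
  exact (exists_theta (M := M) _ _ (IsCoord.balance (exists_coord P P' l).choose_spec.choose_spec)).choose_spec.1 c x

theorem th_one (h : P.IsCoord P' l φ gam) :
    th P P' M l ∘ₗ one (R := R) (B := B) M P.C = twC gam (one (R := R) (B := B) M P'.C) := by
  rw [(h.eq (exists_coord P P' l).choose_spec.choose_spec).2]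
  exact (exists_theta (M := M) _ _ (IsCoord.balance (exists_coord P P' l).choose_spec.choose_spec)).choose_spec.2

theorem th_id (x : P.C ⊗[B] M) : th P P M (𝟙 z) x = x := by
  have h : th P P M (𝟙 z) = LinearMap.id :=
    theta_ext (AlgHom.id R P.C) (fun c y => th_smul isCoord_id c y) (fun _ _ => rfl)
      ((th_one isCoord_id).trans (twC_unit _))
  rw [h]; rfl

theorem th_comp (l' : z'' ⟶ z') (l : z' ⟶ z) (x : P.C ⊗[B] M) :
    th P P'' M (l' ≫ l) x = th P' P'' M l' (th P P' M l x) := by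
  obtain ⟨φ₁, gam₁, h₁⟩ := exists_coord P' P'' l'
  obtain ⟨φ₂, gam₂, h₂⟩ := exists_coord P P' l
  have h : th P P'' M (l' ≫ l) = th P' P'' M l' ∘ₗ th P P' M l := by
    refine theta_ext (φ₁.comp φ₂) (fun c y => th_smul (h₁.comp h₂) c y) (fun c y => ?_) ?_
    · show th P' P'' M l' (th P P' M l (c • y)) = _
      rw [th_smul h₂, th_smul h₁]
      rfl
    · rw [th_one (h₁.comp h₂), LinearMap.comp_assoc, th_one h₂, twC_map φ₁ _ (th_smul h₁), th_one h₁, twC_twC]
  rw [h]; rfl

theorem th_baseChange {M' : Type u} [AddCommGroup M'] [Module R M'] [Module B M'] [IsScalarTower R B M']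
    [HopfRep.Comod R A M'] [TameAct.IsHopfMod R A B M'] (f : M →ₗ[B] M')
    (hf : Hoch.IsComodHom A (f.restrictScalars R)) (l : z' ⟶ z) (x : P.C ⊗[B] M) :
    th P P' M' l (f.baseChange P.C x) = f.baseChange P'.C (th P P' M l x) := by
  obtain ⟨φ, gam, h⟩ := exists_coord P P' l
  have hc : ∀ (C : Type u) [CommRing C] [Algebra R C] [Algebra B C] [IsScalarTower R B C],
      (f.baseChange C).restrictScalars R ∘ₗ one (R := R) (B := B) M C =
        one (R := R) (B := B) M' C ∘ₗ f.restrictScalars R := fun C _ _ _ _ =>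
    LinearMap.ext fun m => by simp
  have e : th P P' M' l ∘ₗ (f.baseChange P.C).restrictScalars R =
      (f.baseChange P'.C).restrictScalars R ∘ₗ th P P' M l := by
    refine theta_ext φ (fun c y => ?_) (fun c y => ?_) ?_
    · show th P P' M' l (f.baseChange P.C (c • y)) = _
      rw [map_smul, th_smul h]
      rfl
    · show f.baseChange P'.C (th P P' M l (c • y)) = _
      rw [th_smul h, map_smul]
      rfl
    · rw [LinearMap.comp_assoc, hc, ← LinearMap.comp_assoc, th_one h, LinearMap.comp_assoc, th_one h,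
        twC_map (AlgHom.id R P'.C) _ (fun c y => (f.baseChange P'.C).map_smul c y), hc, AlgHom.id_comp,
        twC_comodHom _ hf]
  exact LinearMap.congr_fun e x

/-- Invariants are canonical sections. -/
theorem th_fixed {n : M} (hn : n ∈ HopfRep.fixedPts R A M) (l : z' ⟶ z) :
    th P P' M l ((1 : P.C) ⊗ₜ[B] n) = (1 : P'.C) ⊗ₜ[B] n := by
  obtain ⟨φ, gam, h⟩ := exists_coord P P' l
  refine (LinearMap.congr_fun (th_one h) n).trans ?_
  show tw gam _ (HopfRep.Comod.coact (k := R) (A := A) n) = _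
  rw [show HopfRep.Comod.coact (k := R) (A := A) n = n ⊗ₜ[R] (1 : A) from hn, tw_tmul, map_one, one_smul]
  rfl

end Pres

end TameStLib
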