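import Groth.Agent.TameStLib.Atlas

/-!
# The system of modules of a Hopf module
-/

set_option autoImplicit false
set_option linter.style.haveILetI false
set_option backward.isDefEq.respectTransparency false
set_option backward.isDefEq.respectTransparency.types false
set_option maxHeartbeats 800000

universe u

open CategoryTheory CategoryTheory.Limits MonoidalCategory CartesianMonoidalCategory AlgebraicGeometry FibCat StMod
open StPushLib TwDescLib
open scoped TensorProduct MonObj

noncomputable section

namespace TameStLib

open CoactBr (sp pt)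

variable {R : Type u} [CommRing R] {A : Type u} [CommRing A] [HopfAlgebra R A]
variable {B : Type u} [CommRing B] [Algebra R B] [HopfRep.Comod R A B] [GLin.IsCoactAlg R A B]

/-- The chosen presentation of a member. -/
def presOf (z : {z // Mem R A B z}) : Pres (memObj z) := z.2.some

variable (M : Type u) [AddCommGroup M] [Module R M] [Module B M] [IsScalarTower R B M]
  [HopfRep.Comod R A M] [TameAct.IsHopfMod R A B M]

/-- The system of scalar extensions. -/
def hopfSys : ModSys (Mem R A B) where
  N z := ULift.{u + 1} ((presOf z).C ⊗[B] M)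
  grp z := inferInstance
  mod z := Module.compHom _ (presOf z).χ
  rs {z' z} l := AddMonoidHom.mk' (fun t => ULift.up (Pres.th (presOf z) (presOf z') M l t.down)) fun s t => by
    show ULift.up (Pres.th (presOf z) (presOf z') M l (s.down + t.down)) = _
    rw [map_add]; rfl

variable {M}

section Flat

variable {T T' : Type u} [CommRing T] [CommRing T'] [Algebra T T']
variable {C C' : Type u} [CommRing C] [Algebra R C] [Algebra B C] [IsScalarTower R B C] [CommRing C'] [Algebra R C']
  [Algebra B C'] [IsScalarTower R B C']

/-- Twisted scalar extensions are base changes. -/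
theorem bijective_theta (eC : T →+* C) (heC : Function.Bijective eC) (eC' : T' →+* C') (heC' : Function.Bijective eC')
    (φ : C →ₐ[R] C') (gam : A →ₐ[R] C') (hφ : ∀ t, eC' (algebraMap T T' t) = φ (eC t))
    (hbal : ∀ b, IsScalarTower.toAlgHom R B C' b = Algebra.TensorProduct.lift (φ.comp (IsScalarTower.toAlgHom R B C))
      (gam.comp (HopfAlgebra.antipodeAlgHom R A)) (fun _ _ => .all _ _) (HopfRep.Comod.coact (k := R) (A := A) b))
    {N N' : Type (u + 1)} [AddCommGroup N] [Module T N] [AddCommGroup N'] [Module T' N'] [Module T N']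
    [IsScalarTower T T' N'] (eN : N ≃+ C ⊗[B] M) (heN : ∀ t n, eN (t • n) = eC t • eN n)
    (eN' : N' ≃+ C' ⊗[B] M) (heN' : ∀ t n, eN' (t • n) = eC' t • eN' n) (β : N →ₗ[T] N')
    (θ : C ⊗[B] M →ₗ[R] C' ⊗[B] M) (hθ : ∀ (c : C) x, θ (c • x) = φ c • θ x)
    (hθ1 : θ ∘ₗ one (R := R) (B := B) M C = twC gam (one (R := R) (B := B) M C'))
    (hβ : ∀ n, eN' (β n) = θ (eN n)) : Function.Bijective (β.liftBaseChange T') := by
  let E := RingEquiv.ofBijective eC heC
  let E' := RingEquiv.ofBijective eC' heC'
  let si : C' →+* T' := E'.symm.toRingHom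
  letI : Module C' (T' ⊗[T] N) := Module.compHom _ si
  letI : Module R (T' ⊗[T] N) := Module.compHom _ (si.comp (algebraMap R C'))
  haveI : IsScalarTower R C' (T' ⊗[T] N) := IsScalarTower.of_algebraMap_smul fun _ _ => rfl
  have key : ∀ (c : C) (n : C ⊗[B] M),
      (1 : T') ⊗ₜ[T] eN.symm (c • n) = φ c • ((1 : T') ⊗ₜ[T] eN.symm n) := fun c n => by
    have e1 : eN.symm (c • n) = E.symm c • eN.symm n := eN.injective (by
      rw [heN, AddEquiv.apply_symm_apply, AddEquiv.apply_symm_apply]
      exact congrArg (· • n) (E.apply_symm_apply c).symm)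
    rw [e1, TensorProduct.tmul_smul, ← algebraMap_smul T' (E.symm c)]
    show _ = si (φ c) • ((1 : T') ⊗ₜ[T] eN.symm n)
    refine congrArg (· • _) ?_
    refine (E'.symm_apply_apply _).symm.trans (congrArg E'.symm ?_)
    exact (hφ _).trans (congrArg φ (E.apply_symm_apply c))
  let j : M →ₗ[R] T' ⊗[T] N :=
    { toFun := fun m => (1 : T') ⊗ₜ[T] eN.symm (one (R := R) (B := B) M C m)
      map_add' := fun m m' => by rw [map_add, map_add, TensorProduct.tmul_add]
      map_smul' := fun r m => by
        rw [map_smul, ← IsScalarTower.algebraMap_smul C r (one (R := R) (B := B) M C m), key, AlgHom.commutes]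
        rfl }
  let Jm := twC (gam.comp (HopfAlgebra.antipodeAlgHom R A)) j
  have hJm : ∀ (b : B) (m : M), Jm (b • m) = IsScalarTower.toAlgHom R B C' b • Jm m := fun b m => by
    refine (twC_smul _ j (φ.comp (IsScalarTower.toAlgHom R B C)) (fun b m => ?_) b m).trans ?_
    · show (1 : T') ⊗ₜ[T] eN.symm (one (R := R) (B := B) M C (b • m)) = _
      rw [one_smul', key]
      rfl
    · rw [← hbal]
  let J : C' ⊗[B] M →+ T' ⊗[T] N := TensorProduct.liftAddHom
    (AddMonoidHom.mk' (fun c => AddMonoidHom.mk' (fun m => c • Jm m) fun m m' => by rw [map_add, smul_add])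
      fun c c' => AddMonoidHom.ext fun m => by simp [add_smul])
    fun b c m => by
      show (b • c) • Jm m = c • Jm (b • m)
      rw [hJm, ← mul_smul, Algebra.smul_def, mul_comm]
      rfl
  have hJs : ∀ (c : C') x, J (c • x) = c • J x := fun c x => by
    induction x using TensorProduct.induction_on with
    | zero => rw [smul_zero, map_zero, smul_zero]
    | tmul c' m =>
      show (c * c') • Jm m = c • c' • Jm m
      rw [mul_smul]
    | add x x' hx hx' => rw [smul_add, map_add, map_add, smul_add, hx, hx']
  let Jl : C' ⊗[B] M →ₗ[R] T' ⊗[T] N :=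
    { toFun := J
      map_add' := map_add J
      map_smul' := fun r x => by
        rw [RingHom.id_apply, ← IsScalarTower.algebraMap_smul C' r x, hJs, IsScalarTower.algebraMap_smul] }
  have hLs : ∀ (c : C') x, eN' (β.liftBaseChange T' (c • x)) = c • eN' (β.liftBaseChange T' x) := fun c x => by
    show eN' (β.liftBaseChange T' (si c • x)) = _
    rw [map_smul, heN']
    exact congrArg (· • _) (E'.apply_symm_apply c)
  let Ll : T' ⊗[T] N →ₗ[R] C' ⊗[B] M :=
    { toFun := fun x => eN' (β.liftBaseChange T' x)
      map_add' := fun x y => by rw [map_add, map_add]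
      map_smul' := fun r x => by
        rw [RingHom.id_apply, ← IsScalarTower.algebraMap_smul C' r x, hLs, IsScalarTower.algebraMap_smul] }
  have hLj : Ll ∘ₗ j = twC gam (one (R := R) (B := B) M C') := by
    refine LinearMap.ext fun m => ?_
    show eN' (β.liftBaseChange T' ((1 : T') ⊗ₜ[T] _)) = _
    rw [LinearMap.liftBaseChange_tmul, one_smul, hβ, AddEquiv.apply_symm_apply]
    exact LinearMap.congr_fun hθ1 m
  have hJ1 : Jl ∘ₗ one (R := R) (B := B) M C' = Jm := LinearMap.ext fun m => by
    show (1 : C') • Jm m = Jm m
    rw [one_smul]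
  have hJL : Jl ∘ₗ twC gam (one (R := R) (B := B) M C') = j := by
    rw [twC_map (AlgHom.id R C') Jl hJs, AlgHom.id_comp, hJ1, twC_twC, conv_antipode_left, twC_unit]
  have hLJ : Ll ∘ₗ Jm = one (R := R) (B := B) M C' := by
    rw [twC_map (AlgHom.id R C') Ll hLs, AlgHom.id_comp, hLj, twC_twC, conv_antipode_right, twC_unit]
  refine ⟨Function.LeftInverse.injective (g := fun n => J (eN' n)) fun x => ?_, fun n => ?_⟩
  · show J (eN' (β.liftBaseChange T' x)) = x
    induction x using TensorProduct.induction_on with
    | zero => simp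
    | add x y hx hy => rw [map_add, map_add, map_add, hx, hy]
    | tmul t n =>
      obtain ⟨y, rfl⟩ := eN.symm.surjective n
      induction y using TensorProduct.induction_on with
      | zero => simp
      | add y y' hy hy' => rw [map_add, TensorProduct.tmul_add, map_add, map_add, map_add, hy, hy']
      | tmul c m =>
        have hc : c ⊗ₜ[B] m = c • one (R := R) (B := B) M C m := by
          rw [one_apply, TensorProduct.smul_tmul', smul_eq_mul, mul_one]
        rw [LinearMap.liftBaseChange_tmul, heN', hJs, hβ, AddEquiv.apply_symm_apply, hc, hθ, hJs]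
        show eC' t • φ c • Jl (θ (one (R := R) (B := B) M C m)) = _
        rw [show θ (one (R := R) (B := B) M C m) = twC gam (one (R := R) (B := B) M C') m from
          LinearMap.congr_fun hθ1 m, show Jl (twC gam (one (R := R) (B := B) M C') m) = j m from
          LinearMap.congr_fun hJL m, show φ c • j m = (1 : T') ⊗ₜ[T] eN.symm (c • one (R := R) (B := B) M C m) from
          (key c _).symm]
        show si (eC' t) • ((1 : T') ⊗ₜ[T] eN.symm (c • one (R := R) (B := B) M C m)) = _
        rw [show si (eC' t) = t from E'.symm_apply_apply t, TensorProduct.smul_tmul', smul_eq_mul, mul_one]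
  · refine ⟨J (eN' n), eN'.injective ?_⟩
    induction eN' n using TensorProduct.induction_on with
    | zero => simp
    | add x y hx hy => rw [map_add, map_add, map_add, hx, hy]
    | tmul c m =>
      show eN' (β.liftBaseChange T' (c • Jm m)) = _
      rw [hLs, show eN' (β.liftBaseChange T' (Jm m)) = one (R := R) (B := B) M C' m from LinearMap.congr_fun hLJ m,
        one_apply, TensorProduct.smul_tmul', smul_eq_mul, mul_one]

end Flat

theorem hopfSys_good : (hopfSys (R := R) (A := A) (B := B) M).Good where
  small z := inferInstanceAs (Small.{u} (ULift.{u + 1} _))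
  rs_smul {z' z} l a t := by
    obtain ⟨φ, gam, h⟩ := Pres.exists_coord (presOf z) (presOf z') l
    refine ULift.ext _ _ ?_
    show Pres.th (presOf z) (presOf z') M l ((presOf z).χ a • t.down) =
      (presOf z').χ ((bmap (QS R A B) l).appTop a) • Pres.th (presOf z) (presOf z') M l t.down
    rw [h.χ_map, Pres.th_smul h]
  rs_id z t := ULift.ext _ _ (Pres.th_id _)
  rs_comp {z'' z' z} l' l t := ULift.ext _ _ (Pres.th_comp l' l _)
  flat {z' z} l _ _ _ _ halg β hβ := by
    obtain ⟨φ, gam, h⟩ := Pres.exists_coord (presOf z) (presOf z') l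
    exact bijective_theta (R := R) (A := A) (N := (hopfSys M).N z) (N' := (hopfSys M).N z') (presOf z).χ (presOf z).χ_bijective (presOf z').χ
      (presOf z').χ_bijective φ gam (fun t => by rw [halg]; exact h.χ_map t) h.balance'
      AddEquiv.ulift (fun _ _ => rfl) AddEquiv.ulift (fun _ _ => rfl) β (Pres.th (presOf z) (presOf z') M l)
      (Pres.th_smul h) (Pres.th_one h) (fun n => congrArg ULift.down (hβ n))

end TameStLib
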