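import Groth.Agent.TameStLib.Main
import Groth.Agent.GenDescLib.Sections
import Groth.Prelude.Def_W4c1tameactTame

/-!
# Sections over the relations are tensors
-/

set_option autoImplicit false
set_option linter.style.haveILetI false
set_option backward.isDefEq.respectTransparency false
set_option backward.isDefEq.respectTransparency.types false
set_option maxHeartbeats 800000

universe w v u

open CategoryTheory CategoryTheory.Limits AlgebraicGeometry Opposite StMod GenDescLib
open scoped TensorProduct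

noncomputable section

namespace TameStLib

variable {R : Type u} [CommRing R] {A : Type u} [CommRing A] [Algebra R A]
variable {W : BasedCategory.{v, w} (Over (Spec (CommRingCat.of R)))}

/-- Functions act on sections through an identification of the scheme with a spectrum. -/
theorem bijective_tau (M : Mod W) (hMc : M.IsCartesian) (hMq : M.IsLocQCoh) {x' x : W.obj} (k : x' ⟶ x)
    {Ω : Type u} [CommRing Ω] [Algebra R Ω] [IsAffine (sch W x)] [IsAffine (sch W x')]
    (jx : sch W x ≅ Spec (CommRingCat.of Ω)) (jx' : sch W x' ≅ Spec (CommRingCat.of (A ⊗[R] Ω)))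
    (hk : bmap W k = jx'.hom ≫ Spec.map (CommRingCat.ofHom
      (Algebra.TensorProduct.includeRight (R := R) (A := A) (B := Ω)).toRingHom) ≫ jx.inv)
    [Module R Γ(M.obj x, ⊤)]
    (hR : ∀ (r : R) (m : Γ(M.obj x, ⊤)), r • m = jx.hom.appTop (toG Ω (algebraMap R Ω r)) • m)
    (τ : A ⊗[R] Γ(M.obj x, ⊤) →+ Γ(M.obj x', ⊤))
    (hτ : ∀ a m, τ (a ⊗ₜ[R] m) = jx'.hom.appTop (toG (A ⊗[R] Ω) (a ⊗ₜ[R] 1)) • M.mapTop k m) :
    Function.Bijective τ := by
  let ι₂ := (Algebra.TensorProduct.includeRight (R := R) (A := A) (B := Ω)).toRingHom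
  let b : sch W x ⟶ Spec (CommRingCat.of Ω) := jx.hom
  let b' : sch W x' ⟶ Spec (CommRingCat.of (A ⊗[R] Ω)) := jx'.hom
  have H : IsPullback (bmap W k) b' b (Spec.map (CommRingCat.ofHom ι₂)) :=
    IsPullback.of_vert_isIso ⟨by rw [hk]; simp [b, b', ι₂]⟩
  -- structures over the functions
  let T := Γ(Spec (CommRingCat.of Ω), ⊤); let T' := Γ(Spec (CommRingCat.of (A ⊗[R] Ω)), ⊤)
  letI : Algebra T T' := (Spec.map (CommRingCat.ofHom ι₂)).appTop.hom.toAlgebra
  letI : Module T Γ(M.obj x, ⊤) := Module.compHom _ b.appTop.hom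
  letI : Module T' Γ(M.obj x', ⊤) := Module.compHom _ b'.appTop.hom
  letI : Module T Γ(M.obj x', ⊤) := Module.compHom _ (b'.appTop.hom.comp (algebraMap T T'))
  haveI : IsScalarTower T T' Γ(M.obj x', ⊤) := IsScalarTower.of_algebraMap_smul fun _ _ => rfl
  let ψ : Γ(M.obj x, ⊤) →ₗ[T] Γ(M.obj x', ⊤) :=
    { toFun := M.mapTop k
      map_add' := M.mapTop_add k
      map_smul' := fun t m => by
        show M.mapTop k (b.appTop t • m) = b'.appTop ((Spec.map (CommRingCat.ofHom ι₂)).appTop t) • M.mapTop k m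
        rw [Mod.mapTop_smul]
        refine congrArg (· • _) ?_
        exact congr(Scheme.Hom.appTop $(H.w) t) }
  have hb : IsBaseChange T' ψ := isBaseChange_mapTop M hMc hMq k (Spec.map (CommRingCat.ofHom ι₂)) b b' H rfl
    (fun _ _ => rfl) (fun _ _ => rfl) ψ fun _ => rfl
  -- the inverse
  letI : Module Ω Γ(M.obj x, ⊤) := Module.compHom _ (b.appTop.hom.comp (toG Ω))
  haveI : IsScalarTower R Ω Γ(M.obj x, ⊤) := IsScalarTower.of_algebraMap_smul fun r m => (hR r m).symm
  let F : (A ⊗[R] Ω) →+ Γ(M.obj x, ⊤) →+ A ⊗[R] Γ(M.obj x, ⊤) :=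
    AddMonoidHom.mk' (fun z => AddMonoidHom.mk'
      (fun m => ((LinearMap.toSpanSingleton Ω Γ(M.obj x, ⊤) m).restrictScalars R).lTensor A z) fun m m' => by
        induction z using TensorProduct.induction_on with
        | zero => simp
        | tmul a w => simp [TensorProduct.tmul_add]
        | add z z' hz hz' => simp only [map_add, hz, hz']; abel) fun z z' => AddMonoidHom.ext fun m => by simp
  let G : T' →+ Γ(M.obj x, ⊤) →+ A ⊗[R] Γ(M.obj x, ⊤) := F.comp (ofG (A ⊗[R] Ω)).toAddMonoidHom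
  have hbal : ∀ (t : T) (t' : T') (m : Γ(M.obj x, ⊤)), G (t • t') m = G t' (t • m) := fun t t' m => by
    show F (ofG _ ((Spec.map (CommRingCat.ofHom ι₂)).appTop t * t')) m = F (ofG _ t') (b.appTop t • m)
    rw [map_mul, appTop_map, ofG_toG]
    generalize ofG (A ⊗[R] Ω) t' = z
    induction z using TensorProduct.induction_on with
    | zero => simp
    | tmul a w =>
      show F ((1 : A) ⊗ₜ[R] ofG Ω t * (a ⊗ₜ[R] w)) m = _
      rw [Algebra.TensorProduct.tmul_mul_tmul, one_mul]
      show a ⊗ₜ[R] ((ofG Ω t * w) • m) = a ⊗ₜ[R] (w • (b.appTop t • m))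
      rw [mul_comm, mul_smul]
      refine congrArg (fun z => a ⊗ₜ[R] (w • z)) ?_
      show b.appTop (toG Ω (ofG Ω t)) • m = _
      rw [toG_ofG]
    | add z z' hz hz' =>
      rw [mul_add, map_add, map_add, AddMonoidHom.add_apply, AddMonoidHom.add_apply, hz, hz']
  let σ : T' ⊗[T] Γ(M.obj x, ⊤) →+ A ⊗[R] Γ(M.obj x, ⊤) := TensorProduct.liftAddHom G hbal
  let inv : Γ(M.obj x', ⊤) → A ⊗[R] Γ(M.obj x, ⊤) := fun y => σ (hb.equiv.symm y)
  have h1 : ∀ z, inv (τ z) = z := fun z => by
    induction z using TensorProduct.induction_on with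
    | zero => simp [inv]
    | tmul a m =>
      show σ (hb.equiv.symm (τ (a ⊗ₜ[R] m))) = _
      rw [hτ]
      show σ (hb.equiv.symm (toG (A ⊗[R] Ω) (a ⊗ₜ[R] 1) • ψ m)) = _
      rw [map_smul, hb.equiv_symm_apply, TensorProduct.smul_tmul', smul_eq_mul, mul_one]
      show F (ofG _ (toG (A ⊗[R] Ω) (a ⊗ₜ[R] 1))) m = _
      rw [ofG_toG]
      show a ⊗ₜ[R] ((1 : Ω) • m) = _
      rw [one_smul]
    | add z z' hz hz' => simp only [inv] at hz hz' ⊢; rw [map_add, map_add, map_add, hz, hz']
  have h2 : Function.Surjective τ := fun y => by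
    induction y using hb.inductionOn with
    | zero => exact ⟨0, map_zero τ⟩
    | tmul m =>
      refine ⟨1 ⊗ₜ[R] m, ?_⟩
      rw [hτ, ← Algebra.TensorProduct.one_def, map_one, map_one, one_smul]
      rfl
    | smul s y hy =>
      obtain ⟨z, rfl⟩ := hy
      obtain ⟨w, rfl⟩ : ∃ w, toG (A ⊗[R] Ω) w = s := ⟨_, toG_ofG s⟩
      induction z using TensorProduct.induction_on with
      | zero => exact ⟨0, by rw [map_zero, smul_zero]⟩
      | add z z' hz hz' =>
        obtain ⟨v, hv⟩ := hz; obtain ⟨v', hv'⟩ := hz'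
        exact ⟨v + v', by rw [map_add, map_add, smul_add, hv, hv']⟩
      | tmul a m =>
        rw [hτ]
        induction w using TensorProduct.induction_on with
        | zero => exact ⟨0, by rw [map_zero, map_zero, zero_smul]⟩
        | tmul c ω =>
          refine ⟨(c * a) ⊗ₜ[R] (ω • m), ?_⟩
          rw [hτ, show M.mapTop k (ω • m) = toG (A ⊗[R] Ω) ((1 : A) ⊗ₜ[R] ω) • M.mapTop k m from ?_]
          · show b'.appTop (toG (A ⊗[R] Ω) _) • (b'.appTop (toG (A ⊗[R] Ω) _) • M.mapTop k m) =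
              b'.appTop (toG (A ⊗[R] Ω) _) • (b'.appTop (toG (A ⊗[R] Ω) _) • M.mapTop k m)
            rw [← mul_smul, ← mul_smul, ← map_mul, ← map_mul, ← map_mul, ← map_mul,
              Algebra.TensorProduct.tmul_mul_tmul, Algebra.TensorProduct.tmul_mul_tmul, one_mul, mul_one, mul_one]
          · show ψ (toG Ω ω • m) = _
            rw [map_smul]
            show b'.appTop ((Spec.map (CommRingCat.ofHom ι₂)).appTop (toG Ω ω)) • M.mapTop k m = _
            rw [appTop_map, ofG_toG]
            rfl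
        | add u u' hu hu' =>
          obtain ⟨v, hv⟩ := hu; obtain ⟨v', hv'⟩ := hu'
          exact ⟨v + v', by rw [map_add, map_add, add_smul, hv, hv']⟩
    | add y y' hy hy' =>
      obtain ⟨z, rfl⟩ := hy; obtain ⟨z', rfl⟩ := hy'
      exact ⟨z + z', map_add τ z z'⟩
  exact ⟨Function.LeftInverse.injective h1, h2⟩

end TameStLib
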