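import Groth.Prelude.Def_W4c1tameactTame
import Groth.Prelude.Def_Hoch
import Mathlib.RingTheory.TensorProduct.Maps
import Mathlib.RingTheory.HopfAlgebra.Convolution

/-!
# Twisting the scalar extensions of a Hopf module by points of the group
-/

set_option autoImplicit false
set_option linter.style.haveILetI false

universe v v' u

open scoped TensorProduct

noncomputable section

namespace TameStLib

variable {R : Type u} [CommRing R] {A : Type u} [CommRing A] [HopfAlgebra R A]
variable {M : Type u} [AddCommGroup M] [Module R M] [HopfRep.Comod R A M]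

section Tw

variable {C' : Type u} [CommRing C'] [Algebra R C'] {P : Type v} [AddCommGroup P] [Module R P] [Module C' P]
  [IsScalarTower R C' P]

/-- Moving a map to a module by a point of the group. -/
def tw (δ : A →ₐ[R] C') (ι : M →ₗ[R] P) : M ⊗[R] A →ₗ[R] P :=
  TensorProduct.lift (LinearMap.mk₂ R (fun n a => δ a • ι n)
    (fun n n' a => by rw [map_add, smul_add])
    (fun r n a => by rw [map_smul, smul_comm])
    (fun n a a' => by rw [map_add, add_smul])
    (fun r n a => by rw [map_smul, smul_assoc]))

@[simp] theorem tw_tmul (δ : A →ₐ[R] C') (ι : M →ₗ[R] P) (n : M) (a : A) : tw δ ι (n ⊗ₜ[R] a) = δ a • ι n := rfl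

/-- The twist of a map. -/
def twC (δ : A →ₐ[R] C') (ι : M →ₗ[R] P) : M →ₗ[R] P := tw δ ι ∘ₗ HopfRep.Comod.coact (k := R) (A := A)

/-- The product of points. -/
def conv (δ δ' : A →ₐ[R] C') : A →ₐ[R] C' :=
  (Algebra.TensorProduct.lift δ δ' fun _ _ => .all _ _).comp (Bialgebra.comulAlgHom R A)

/-- The unit point. -/
def unitPt (R A C' : Type u) [CommRing R] [CommRing A] [HopfAlgebra R A] [CommRing C'] [Algebra R C'] :
    A →ₐ[R] C' :=
  (Algebra.ofId R C').comp (Bialgebra.counitAlgHom R A)

theorem twC_twC (δ δ' : A →ₐ[R] C') (ι : M →ₗ[R] P) : twC δ (twC δ' ι) = twC (conv δ' δ) ι := by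
  let W : M ⊗[R] (A ⊗[R] A) →ₗ[R] P := TensorProduct.lift
    (LinearMap.mk₂ R (fun n z => Algebra.TensorProduct.lift δ' δ (fun _ _ => .all _ _) z • ι n)
      (fun n n' a => by rw [map_add, smul_add])
      (fun r n a => by rw [map_smul, smul_comm])
      (fun n a a' => by rw [map_add, add_smul])
      (fun r n a => by rw [map_smul, smul_assoc]))
  have h1 : ∀ z : M ⊗[R] A, tw δ (twC δ' ι) z =
      W (TensorProduct.assoc R M A A ((HopfRep.Comod.coact (k := R) (A := A)).rTensor A z)) := fun z => by
    induction z using TensorProduct.induction_on with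
    | zero => simp
    | tmul n a =>
      show δ a • tw δ' ι (HopfRep.Comod.coact (k := R) (A := A) n) = _
      rw [LinearMap.rTensor_tmul]
      generalize HopfRep.Comod.coact (k := R) (A := A) n = y
      induction y using TensorProduct.induction_on with
      | zero => simp
      | tmul n' a' => simp [W, ← mul_smul, mul_comm]
      | add y y' hy hy' => simp only [map_add, smul_add, TensorProduct.add_tmul, hy, hy']
    | add z z' hz hz' => simp only [map_add, hz, hz']
  have h2 : ∀ z : M ⊗[R] A, tw (conv δ' δ) ι z = W ((CoalgebraStruct.comul (R := R)).lTensor M z) := fun z => by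
    induction z using TensorProduct.induction_on with
    | zero => simp
    | tmul n a => rfl
    | add z z' hz hz' => simp only [map_add, hz, hz']
  refine LinearMap.ext fun m => ?_
  show tw δ (twC δ' ι) _ = tw (conv δ' δ) ι _
  rw [h1, h2]
  exact congrArg W (LinearMap.congr_fun (HopfRep.Comod.coassoc (k := R) (A := A) (V := M)) m)

theorem twC_unit (ι : M →ₗ[R] P) : twC (unitPt R A C') ι = ι := by
  have h : ∀ z : M ⊗[R] A, tw (unitPt R A C') ι z =
      ι (TensorProduct.rid R M ((CoalgebraStruct.counit (R := R)).lTensor M z)) := fun z => by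
    induction z using TensorProduct.induction_on with
    | zero => simp
    | tmul n a => simp [unitPt]
    | add z z' hz hz' => simp only [map_add, hz, hz']
  refine LinearMap.ext fun m => (h _).trans (congrArg ι ?_)
  rw [show (CoalgebraStruct.counit (R := R)).lTensor M (HopfRep.Comod.coact (k := R) (A := A) m) = m ⊗ₜ[R] (1 : R)
    from LinearMap.congr_fun (HopfRep.Comod.counit_comp (k := R) (A := A) (V := M)) m, TensorProduct.rid_tmul,
    one_smul]

theorem twC_map {C'' : Type u} [CommRing C''] [Algebra R C''] {P' : Type v'} [AddCommGroup P'] [Module R P']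
    [Module C'' P'] [IsScalarTower R C'' P'] (φ : C' →ₐ[R] C'') (f : P →ₗ[R] P')
    (hf : ∀ (c : C') x, f (c • x) = φ c • f x) (δ : A →ₐ[R] C') (ι : M →ₗ[R] P) :
    f ∘ₗ twC δ ι = twC (φ.comp δ) (f ∘ₗ ι) := by
  have h : f ∘ₗ tw δ ι = tw (φ.comp δ) (f ∘ₗ ι) := TensorProduct.ext' fun n a => hf _ _
  exact LinearMap.ext fun m => LinearMap.congr_fun h _

theorem twC_comodHom {M' : Type u} [AddCommGroup M'] [Module R M'] [HopfRep.Comod R A M'] (g : M →ₗ[R] M')
    (hg : Hoch.IsComodHom A g) (δ : A →ₐ[R] C') (ι : M' →ₗ[R] P) : twC δ (ι ∘ₗ g) = twC δ ι ∘ₗ g := by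
  have h : tw δ (ι ∘ₗ g) = tw δ ι ∘ₗ g.rTensor A := TensorProduct.ext' fun n a => rfl
  refine LinearMap.ext fun m => (LinearMap.congr_fun h _).trans ?_
  exact congrArg (tw δ ι) (LinearMap.congr_fun hg m).symm

variable {B : Type u} [CommRing B] [Algebra R B] [HopfRep.Comod R A B] [Module B M] [IsScalarTower R B M]
  [TameAct.IsHopfMod R A B M]

theorem twC_smul (δ : A →ₐ[R] C') (ι : M →ₗ[R] P) (β₀ : B →ₐ[R] C') (hι : ∀ b m, ι (b • m) = β₀ b • ι m) (b : B)
    (m : M) : twC δ ι (b • m) =
      Algebra.TensorProduct.lift β₀ δ (fun _ _ => .all _ _) (HopfRep.Comod.coact (k := R) (A := A) b) •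
        twC δ ι m := by
  show tw δ ι (HopfRep.Comod.coact (k := R) (A := A) (b • m)) = _ • tw δ ι (HopfRep.Comod.coact (k := R) (A := A) m)
  rw [TameAct.IsHopfMod.coact_smul]
  generalize HopfRep.Comod.coact (k := R) (A := A) b = c
  generalize HopfRep.Comod.coact (k := R) (A := A) m = z
  induction c using TensorProduct.induction_on with
  | zero => simp
  | tmul b' a' =>
    induction z using TensorProduct.induction_on with
    | zero => simp
    | tmul n a =>
      rw [TameAct.hmSMul_tmul, tw_tmul, tw_tmul, Algebra.TensorProduct.lift_tmul, hι, map_mul, ← mul_smul,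
        ← mul_smul]
      congr 1
      ring
    | add z z' hz hz' => simp only [map_add, smul_add, hz, hz']
  | add c c' hc hc' => simp only [map_add, LinearMap.add_apply, add_smul, hc, hc']

omit [Algebra R B] [HopfRep.Comod R A B] [Module B M] [IsScalarTower R B M] [TameAct.IsHopfMod R A B M] in
theorem conv_antipode_right (δ : A →ₐ[R] C') :
    conv δ (δ.comp (HopfAlgebra.antipodeAlgHom R A)) = unitPt R A C' := by
  refine AlgHom.ext fun a => ?_
  have h : ∀ z : A ⊗[R] A, Algebra.TensorProduct.lift δ (δ.comp (HopfAlgebra.antipodeAlgHom R A))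
      (fun _ _ => .all _ _) z = δ (LinearMap.mul' R A ((HopfAlgebra.antipode R).lTensor A z)) := fun z => by
    induction z using TensorProduct.induction_on with
    | zero => simp
    | tmul s t => simp
    | add z z' hz hz' => simp only [map_add, hz, hz']
  show Algebra.TensorProduct.lift δ (δ.comp (HopfAlgebra.antipodeAlgHom R A)) (fun _ _ => .all _ _)
    (CoalgebraStruct.comul (R := R) a) = _
  rw [h, HopfAlgebra.mul_antipode_lTensor_comul_apply, AlgHom.commutes]
  rfl

omit [Algebra R B] [HopfRep.Comod R A B] [Module B M] [IsScalarTower R B M] [TameAct.IsHopfMod R A B M] in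
theorem conv_antipode_left (δ : A →ₐ[R] C') :
    conv (δ.comp (HopfAlgebra.antipodeAlgHom R A)) δ = unitPt R A C' := by
  refine AlgHom.ext fun a => ?_
  have h : ∀ z : A ⊗[R] A, Algebra.TensorProduct.lift (δ.comp (HopfAlgebra.antipodeAlgHom R A)) δ
      (fun _ _ => .all _ _) z = δ (LinearMap.mul' R A ((HopfAlgebra.antipode R).rTensor A z)) := fun z => by
    induction z using TensorProduct.induction_on with
    | zero => simp
    | tmul s t => simp
    | add z z' hz hz' => simp only [map_add, hz, hz']
  show Algebra.TensorProduct.lift (δ.comp (HopfAlgebra.antipodeAlgHom R A)) δ (fun _ _ => .all _ _)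
    (CoalgebraStruct.comul (R := R) a) = _
  rw [h, HopfAlgebra.mul_antipode_rTensor_comul_apply, AlgHom.commutes]
  rfl

end Tw

section Theta

variable {B : Type u} [CommRing B] [Algebra R B] [HopfRep.Comod R A B] [Module B M] [IsScalarTower R B M]
  [TameAct.IsHopfMod R A B M]
variable (M) in
/-- The unit of the scalar extension. -/
def one (C : Type u) [CommRing C] [Algebra R C] [Algebra B C] [IsScalarTower R B C] : M →ₗ[R] C ⊗[B] M where
  toFun m := 1 ⊗ₜ[B] m
  map_add' m m' := TensorProduct.tmul_add _ _ _
  map_smul' r m := by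
    rw [RingHom.id_apply, ← IsScalarTower.algebraMap_smul B r m, TensorProduct.tmul_smul]
    exact IsScalarTower.algebraMap_smul B r _

variable {C C' : Type u} [CommRing C] [Algebra R C] [Algebra B C] [IsScalarTower R B C] [CommRing C'] [Algebra R C']
  [Algebra B C'] [IsScalarTower R B C']

@[simp] theorem one_apply (m : M) : one (R := R) (B := B) M C m = 1 ⊗ₜ[B] m := rfl

theorem one_smul' (b : B) (m : M) :
    one (R := R) (B := B) M C (b • m) = IsScalarTower.toAlgHom R B C b • one (R := R) (B := B) M C m := by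
  rw [one_apply, one_apply, TensorProduct.tmul_smul]
  exact (algebraMap_smul C b ((1 : C) ⊗ₜ[B] m)).symm

/-- The maps of scalar extensions. -/
theorem exists_theta (φ : C →ₐ[R] C') (γ : A →ₐ[R] C')
    (hφ : ∀ b, φ (algebraMap B C b) = Algebra.TensorProduct.lift (IsScalarTower.toAlgHom R B C') γ
      (fun _ _ => .all _ _) (HopfRep.Comod.coact (k := R) (A := A) b)) :
    ∃ θ : C ⊗[B] M →ₗ[R] C' ⊗[B] M, (∀ (c : C) x, θ (c • x) = φ c • θ x) ∧
      θ ∘ₗ one (R := R) (B := B) M C = twC γ (one (R := R) (B := B) M C') := by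
  let ι' := twC γ (one (R := R) (B := B) M C')
  let θ : C ⊗[B] M →+ C' ⊗[B] M := TensorProduct.liftAddHom
    (AddMonoidHom.mk' (fun c => AddMonoidHom.mk' (fun m => φ c • ι' m) fun m m' => by rw [map_add, smul_add])
      fun c c' => AddMonoidHom.ext fun m => by simp [add_smul])
    fun b c m => by
      show φ (b • c) • ι' m = φ c • ι' (b • m)
      rw [twC_smul γ _ (IsScalarTower.toAlgHom R B C') (one_smul') b m, ← hφ, ← mul_smul, ← map_mul,
        Algebra.smul_def, mul_comm]
  have hs : ∀ (c : C) x, θ (c • x) = φ c • θ x := fun c x => by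
    induction x using TensorProduct.induction_on with
    | zero => simp
    | tmul c' m =>
      show φ (c * c') • ι' m = φ c • φ c' • ι' m
      rw [map_mul, mul_smul]
    | add x x' hx hx' => simp only [map_add, smul_add, hx, hx']
  refine ⟨{ toFun := θ, map_add' := map_add θ, map_smul' := fun r x => ?_ }, hs, LinearMap.ext fun m => ?_⟩
  · rw [RingHom.id_apply, ← IsScalarTower.algebraMap_smul C r x, hs, AlgHom.commutes,
      IsScalarTower.algebraMap_smul C' r]
  · show φ 1 • ι' m = ι' m
    rw [map_one, one_smul]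

omit [Algebra B C'] [IsScalarTower R B C'] in
/-- Two maps of scalar extensions agree if they agree on the unit. -/
theorem theta_ext {X : Type v} [AddCommGroup X] [Module R X] [Module C' X] (φ : C →ₐ[R] C')
    {θ θ' : C ⊗[B] M →ₗ[R] X} (h : ∀ (c : C) x, θ (c • x) = φ c • θ x) (h' : ∀ (c : C) x, θ' (c • x) = φ c • θ' x)
    (e : θ ∘ₗ one (R := R) (B := B) M C = θ' ∘ₗ one (R := R) (B := B) M C) : θ = θ' := by
  refine LinearMap.ext fun x => ?_
  induction x using TensorProduct.induction_on with
  | zero => simp
  | tmul c m =>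
    rw [show c ⊗ₜ[B] m = c • ((1 : C) ⊗ₜ[B] m) by rw [TensorProduct.smul_tmul', smul_eq_mul, mul_one], h, h']
    exact congrArg (φ c • ·) (LinearMap.congr_fun e m)
  | add x x' hx hx' => rw [map_add, map_add, hx, hx']

end Theta

end TameStLib
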